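import Mathlib
import Cfsg.Prelude.Def_SylowChains
import Cfsg.Agent.LocalEven.StronglyPEmbedded

/-! The graph on Sylow `p`-subgroups with edges given by nontrivial intersections. -/

namespace CfsgLib.LocalEvenBasic

open Subgroup CfsgLib.LocalEven

variable {G : Type*} [Group G] {p : ℕ}

/-- Two distinct Sylow subgroups meeting nontrivially. -/
def SylowAdj (S T : Sylow p G) : Prop := S ≠ T ∧ (S : Subgroup G) ⊓ (T : Subgroup G) ≠ ⊥

theorem SylowAdj.symm {S T : Sylow p G} (h : SylowAdj S T) : SylowAdj T S :=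
  ⟨h.1.symm, by rw [inf_comm]; exact h.2⟩

theorem isSylowChainConnected_iff :
    Cfsg.IsSylowChainConnected p G ↔ ∀ S T : Sylow p G, Relation.ReflTransGen SylowAdj S T := by
  constructor
  · intro h S T
    obtain ⟨n, c, h0, hn, -, hc⟩ := h S T
    have : ∀ i : Fin (n + 1), Relation.ReflTransGen SylowAdj S (c i) := by
      intro i
      induction i using Fin.induction with
      | zero => rw [h0]
      | succ i ih => exact ih.tail (hc i)
    exact hn ▸ this _
  · intro h S T
    rcases eq_or_ne S T with rfl | hne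
    · exact ⟨0, fun _ => S, rfl, rfl, fun _ => inf_le_left, fun i => i.elim0⟩
    by_cases hST : (S : Subgroup G) ⊓ (T : Subgroup G) = ⊥
    · obtain ⟨n, c, h0, hn, hc⟩ : ∃ (n : ℕ) (c : Fin (n + 1) → Sylow p G), c 0 = S ∧ c (Fin.last n) = T ∧
          ∀ i : Fin n, SylowAdj (c i.castSucc) (c i.succ) := by
        clear hne hST
        induction h S T with
        | refl => exact ⟨0, fun _ => S, rfl, rfl, fun i => i.elim0⟩
        | @tail U W _ hUW ih =>
          obtain ⟨n, c, h0, hn, hc⟩ := ih
          refine ⟨n + 1, Fin.snoc c W, ?_, by simp, fun i => ?_⟩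
          · rw [show (0 : Fin (n + 2)) = Fin.castSucc 0 from rfl, Fin.snoc_castSucc, h0]
          · refine Fin.lastCases ?_ (fun j => ?_) i
            · rw [Fin.snoc_castSucc, Fin.succ_last, Fin.snoc_last, hn]; exact hUW
            · rw [Fin.succ_castSucc, Fin.snoc_castSucc, Fin.snoc_castSucc]; exact hc j
      exact ⟨n, c, h0, hn, fun i => hST ▸ bot_le, hc⟩
    · refine ⟨1, ![S, T], rfl, rfl, fun i => ?_, fun i => ?_⟩
      · fin_cases i
        · exact inf_le_left
        · exact inf_le_right
      · fin_cases i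
        exact ⟨hne, hST⟩

variable [Finite G] [Fact p.Prime]

theorem reflTransGen_smul {S T : Sylow p G} (g : G) (h : Relation.ReflTransGen SylowAdj S T) :
    Relation.ReflTransGen SylowAdj (g • S) (g • T) := by
  induction h with
  | refl => exact .refl
  | @tail A B _ hAB ih =>
  refine ih.tail ⟨?_, ?_⟩
  · exact fun h => hAB.1 (MulAction.injective g h)
  · intro h
    apply hAB.2
    rw [Sylow.coe_subgroup_smul, Sylow.coe_subgroup_smul] at h
    have h2 : ((A : Subgroup G) ⊓ (B : Subgroup G)).map (MulAut.conj g).toMonoidHom = ⊥ := by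
      rw [map_inf _ _ _ (MulAut.conj g).injective]; exact h
    exact (map_eq_bot_iff_of_injective _ (MulAut.conj g).injective).mp h2

/-- A subgroup with the normaliser condition shows that the graph is disconnected. -/
theorem not_connected_of_normalizersLE {H : Subgroup G} (hH : H ≠ ⊤) (hp : p ∣ Nat.card H)
    (hN : NormalizersLE p H) : ¬ Cfsg.IsSylowChainConnected p G := by
  intro hcon
  rw [isSylowChainConnected_iff] at hcon
  obtain ⟨P, hP1, hPH⟩ := exists_sylow_le_of_normalizersLE hN hp
  have hall : ∀ T : Sylow p G, (T : Subgroup G) ≤ H := by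
    intro T
    induction hcon P T with
    | refl => exact hPH
    | @tail U W _ hUW ih =>
      exact le_of_inf_ne_bot hN W fun h => hUW.2 (le_bot_iff.mp (h ▸ le_inf inf_le_right (inf_le_left.trans ih)))
  apply hH
  rw [eq_top_iff]
  intro g _
  by_contra hg
  refine inter_conj_of_normalizersLE hN hp g hg ?_
  have h1 : ((g • P : Sylow p G) : Subgroup G) ≤ H ⊓ H.map (MulAut.conj g).toMonoidHom := by
    refine le_inf (hall _) ?_
    rw [Sylow.coe_subgroup_smul]
    exact Subgroup.map_mono hPH
  refine dvd_trans ?_ (card_dvd_of_le h1)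
  exact (g • P).dvd_card_of_dvd_card (hp.trans (card_subgroup_dvd_card H))

/-- A disconnected graph gives a subgroup with the normaliser condition. -/
theorem exists_normalizersLE_of_not_connected (h : ¬ Cfsg.IsSylowChainConnected p G) :
    ∃ H : Subgroup G, H ≠ ⊤ ∧ p ∣ Nat.card H ∧ NormalizersLE p H := by
  rw [isSylowChainConnected_iff] at h
  push Not at h
  obtain ⟨S, T, hST⟩ := h
  let H : Subgroup G :=
    { carrier := {g : G | Relation.ReflTransGen SylowAdj S (g • S)}
      one_mem' := by simp only [Set.mem_setOf_eq, one_smul]; exact .refl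
      mul_mem' := fun {a b} ha hb => by
        show Relation.ReflTransGen SylowAdj S ((a * b) • S)
        rw [mul_smul]
        exact ha.trans (reflTransGen_smul a hb)
      inv_mem' := fun {a} ha => by
        show Relation.ReflTransGen SylowAdj S (a⁻¹ • S)
        have h1 := reflTransGen_smul a⁻¹ ha
        rw [inv_smul_smul] at h1
        exact haveI : Std.Symm (SylowAdj (p := p) (G := G)) := ⟨fun _ _ h => h.symm⟩; symm h1 }
  have hSH : (S : Subgroup G) ≤ H := fun s hs => by
    show Relation.ReflTransGen SylowAdj S (s • S)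
    rw [Sylow.smul_eq_iff_mem_normalizer.mpr (Subgroup.le_normalizer hs)]
  have hne : (S : Subgroup G) ≠ ⊥ := by
    intro hbot
    obtain ⟨g, hg⟩ := MulAction.exists_smul_eq G S T
    have hST' : S = T := Sylow.ext (by rw [← hg, Sylow.coe_subgroup_smul, hbot]; simp)
    exact hST (hST' ▸ .refl)
  refine ⟨H, fun htop => ?_, ?_, ?_⟩
  · obtain ⟨g, hg⟩ := MulAction.exists_smul_eq G S T
    exact hST (hg ▸ (htop ▸ mem_top g : g ∈ H))
  · refine dvd_trans ?_ (card_dvd_of_le hSH)
    haveI := (nontrivial_iff_ne_bot (S : Subgroup G)).mpr hne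
    exact (S.isPGroup'.card_eq_or_dvd).resolve_left Finite.one_lt_card.ne'
  · intro A hA hAp hA1 g hg
    obtain ⟨R, hR⟩ := (hAp.of_equiv (subgroupOfEquivOfLe hA).symm).exists_le_sylow
    obtain ⟨m, hm⟩ := MulAction.exists_smul_eq ↥H (S.subtype hSH) R
    have hAm : A ≤ (((m : G) • S : Sylow p G) : Subgroup G) := by
      intro a ha
      have h1 : (⟨a, hA ha⟩ : ↥H) ∈ (R : Subgroup ↥H) := hR (mem_subgroupOf.mpr ha)
      rw [← hm, Sylow.coe_subgroup_smul] at h1
      obtain ⟨s, hs, hsa⟩ := Subgroup.mem_map.mp h1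
      rw [Sylow.coe_subgroup_smul]
      refine ⟨(s : G), ?_, ?_⟩
      · rw [Sylow.coe_subtype, mem_subgroupOf] at hs
        exact hs
      · simpa [MulAut.smul_def] using congrArg H.subtype hsa
    have hm' : Relation.ReflTransGen SylowAdj S ((m : G) • S) := m.2
    have hgm : g * (m : G) ∈ H := by
      show Relation.ReflTransGen SylowAdj S ((g * (m : G)) • S)
      rw [mul_smul]
      refine hm'.trans ?_
      rcases eq_or_ne ((m : G) • S) (g • (m : G) • S) with he | he
      · rw [← he]
      refine Relation.ReflTransGen.single ⟨he, fun hb => hA1 (le_bot_iff.mp (hb ▸ le_inf hAm ?_))⟩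
      intro a ha
      rw [Sylow.coe_subgroup_smul]
      exact ⟨g⁻¹ * a * g, hAm ((mem_normalizer_iff''.mp hg a).mp ha), by simp [mul_assoc]⟩
    simpa using H.mul_mem hgm (H.inv_mem m.2)

end CfsgLib.LocalEvenBasic
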