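import Mathlib

/-! Counting inequalities for the lattice of subgroups (products of subgroups). -/

namespace CfsgLib.LocalEvenBasic

variable {G : Type*} [Group G] [Finite G]

omit [Finite G] in
/-- Lagrange for a pair of nested subgroups. -/
theorem card_mul_relIndex_of_le (H K : Subgroup G) (h : H ≤ K) :
    Nat.card H * H.relIndex K = Nat.card K := by
  rw [← Subgroup.relIndex_bot_left H, Subgroup.relIndex_mul_relIndex _ _ _ bot_le h,
    Subgroup.relIndex_bot_left]

/-- `|H| |K| ≤ |H ∩ K| |⟨H, K⟩|`. -/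
theorem card_mul_le_inf_mul_sup (H K : Subgroup G) :
    Nat.card H * Nat.card K ≤ Nat.card ↥(H ⊓ K) * Nat.card ↥(H ⊔ K) := by
  have h2 : Nat.card ↥(H ⊓ K) * H.relIndex K = Nat.card K := by
    rw [← Subgroup.inf_relIndex_right H K]
    exact card_mul_relIndex_of_le _ _ inf_le_right
  have h1 : Nat.card H * H.relIndex (H ⊔ K) = Nat.card ↥(H ⊔ K) :=
    card_mul_relIndex_of_le _ _ le_sup_left
  have h3 : H.relIndex K ≤ H.relIndex (H ⊔ K) :=
    Subgroup.relIndex_le_of_le_right le_sup_right Subgroup.index_ne_zero_of_finite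
  calc Nat.card H * Nat.card K
      = Nat.card ↥(H ⊓ K) * (Nat.card H * H.relIndex K) := by rw [← h2]; ring
    _ ≤ Nat.card ↥(H ⊓ K) * (Nat.card H * H.relIndex (H ⊔ K)) := by gcongr
    _ = _ := by rw [h1]

/-- If `|H| |K| = |H ∩ K| |G|` then every element is a product `k h`. -/
theorem exists_mul_of_card_eq (H K : Subgroup G)
    (h : Nat.card H * Nat.card K = Nat.card ↥(H ⊓ K) * Nat.card G) (x : G) :
    ∃ k ∈ K, ∃ a ∈ H, x = k * a := by
  let f : ↥K ⧸ H.subgroupOf K → G ⧸ H :=
    Quotient.map' (fun k : ↥K => (k : G)) (by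
      intro a b hab
      rw [QuotientGroup.leftRel_apply] at hab ⊢
      simpa [Subgroup.mem_subgroupOf] using hab)
  have hinj : Function.Injective f := by
    intro a b
    induction a using QuotientGroup.induction_on with
    | H a =>
      induction b using QuotientGroup.induction_on with
      | H b =>
        intro hab
        have hab' : ((a : G) : G ⧸ H) = ((b : G) : G ⧸ H) := hab
        rw [QuotientGroup.eq] at hab' ⊢
        simpa [Subgroup.mem_subgroupOf] using hab'
  have h2 : Nat.card ↥(H ⊓ K) * H.relIndex K = Nat.card K := by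
    rw [← Subgroup.inf_relIndex_right H K]
    exact card_mul_relIndex_of_le _ _ inf_le_right
  have hcard : Nat.card (↥K ⧸ H.subgroupOf K) = Nat.card (G ⧸ H) := by
    change H.relIndex K = H.index
    have h4 : Nat.card ↥(H ⊓ K) * (Nat.card H * H.relIndex K)
        = Nat.card ↥(H ⊓ K) * (Nat.card H * H.index) := by
      rw [H.card_mul_index, ← h, ← h2]; ring
    exact Nat.eq_of_mul_eq_mul_left Nat.card_pos (Nat.eq_of_mul_eq_mul_left Nat.card_pos h4)
  obtain ⟨q, hq⟩ := ((Nat.bijective_iff_injective_and_card f).mpr ⟨hinj, hcard⟩).2 (x : G ⧸ H)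
  induction q using QuotientGroup.induction_on with
  | H k =>
    have hq' : ((k : G) : G ⧸ H) = (x : G ⧸ H) := hq
    rw [QuotientGroup.eq] at hq'
    exact ⟨k, k.2, (k : G)⁻¹ * x, hq', by group⟩

end CfsgLib.LocalEvenBasic
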