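import Mathlib
import Cfsg.Agent.LocalEvenBasic.CardLattice

/-! The replacement step for abelian subgroups: from `B` abelian and an element `x` all of whose
commutators with `B` lie in an abelian subgroup `D` normalised by `B`. -/

namespace CfsgLib.LocalEvenBasic

open Subgroup

variable {G : Type*} [Group G]

/-- The subgroup generated by the commutators `b x b⁻¹ x⁻¹`, `b ∈ B`. -/
def commWith (B : Subgroup G) (x : G) : Subgroup G :=
  Subgroup.closure {m : G | ∃ b ∈ B, b * x * b⁻¹ * x⁻¹ = m}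

theorem mem_commWith {B : Subgroup G} (x : G) {b : G} (hb : b ∈ B) :
    b * x * b⁻¹ * x⁻¹ ∈ commWith B x := subset_closure ⟨b, hb, rfl⟩

/-- The replacement of `B` at `x`. -/
def replaceAt (B : Subgroup G) (x : G) : Subgroup G :=
  commWith B x ⊔ (B ⊓ Subgroup.centralizer (commWith B x : Set G))

theorem commWith_le {B D : Subgroup G} {x : G} (h : ∀ b ∈ B, b * x * b⁻¹ * x⁻¹ ∈ D) :
    commWith B x ≤ D :=
  (closure_le _).mpr fun _ ⟨b, hb, hm⟩ => hm ▸ h b hb

theorem commute_of_mem_isMulCommutative {B : Subgroup G} (hB : IsMulCommutative B) {a b : G}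
    (ha : a ∈ B) (hb : b ∈ B) : a * b = b * a := by
  haveI := hB
  simpa using congrArg Subtype.val (mul_comm' (⟨a, ha⟩ : B) ⟨b, hb⟩)

theorem isMulCommutative_sup {A B : Subgroup G} (hA : IsMulCommutative A) (hB : IsMulCommutative B)
    (h : A ≤ Subgroup.centralizer (B : Set G)) : IsMulCommutative ↥(A ⊔ B) := by
  have h1 : A ⊔ B ≤ Subgroup.centralizer ((A ⊔ B : Subgroup G) : Set G) := by
    refine sup_le ?_ ?_
    · rw [le_centralizer_iff]
      exact sup_le (fun a ha => mem_centralizer_iff.mpr fun c hc => commute_of_mem_isMulCommutative hA hc ha)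
        (le_centralizer_iff.mp h)
    · rw [le_centralizer_iff]
      exact sup_le h (fun a ha => mem_centralizer_iff.mpr fun c hc => commute_of_mem_isMulCommutative hB hc ha)
  exact ⟨⟨fun a b => Subtype.ext (mem_centralizer_iff.mp (h1 b.2) a a.2)⟩⟩

theorem replaceAt_isMulCommutative {B D : Subgroup G} (hB : IsMulCommutative B)
    (hD : IsMulCommutative D) {x : G} (h : ∀ b ∈ B, b * x * b⁻¹ * x⁻¹ ∈ D) :
    IsMulCommutative ↥(replaceAt B x) := by
  refine isMulCommutative_sup ?_ ?_ (le_centralizer_iff.mp inf_le_right)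
  · exact ⟨⟨fun a b => Subtype.ext
      (commute_of_mem_isMulCommutative hD (commWith_le h a.2) (commWith_le h b.2))⟩⟩
  · exact ⟨⟨fun a b => Subtype.ext (commute_of_mem_isMulCommutative hB a.2.1 b.2.1)⟩⟩

/-- The replacement is at least as large as `B`. -/
theorem card_le_replaceAt [Finite G] {B D : Subgroup G} (hB : IsMulCommutative B)
    (hD : IsMulCommutative D) {x : G} (hBD : B ≤ Subgroup.normalizer (D : Set G))
    (h : ∀ b ∈ B, b * x * b⁻¹ * x⁻¹ ∈ D) :
    Nat.card B ≤ Nat.card ↥(replaceAt B x) := by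
  set M := commWith B x with hM
  set C := B ⊓ Subgroup.centralizer (M : Set G) with hC
  have hBc : ∀ {a b : G}, a ∈ B → b ∈ B → a * b = b * a := fun ha hb =>
    commute_of_mem_isMulCommutative hB ha hb
  have hDc : ∀ {a b : G}, a ∈ D → b ∈ D → a * b = b * a := fun ha hb =>
    commute_of_mem_isMulCommutative hD ha hb
  let f : G → G := fun b => b * x * b⁻¹ * x⁻¹
  have hrel : ∀ b ∈ B, ∀ c ∈ B, c * f b * c⁻¹ * (f b)⁻¹ = b * f c * b⁻¹ * (f c)⁻¹ := by
    intro b hb c hc
    have e1 : c * f b * c⁻¹ * f c = f (c * b) := by simp only [f]; group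
    have e2 : b * f c * b⁻¹ * f b = f (b * c) := by simp only [f]; group
    have e3 : c * f b * c⁻¹ * f c = b * f c * b⁻¹ * f b := by rw [e1, e2, hBc hc hb]
    have h2 : c * f b * c⁻¹ = b * f c * b⁻¹ * f b * (f c)⁻¹ := by rw [← e3]; group
    rw [h2, mul_assoc (b * f c * b⁻¹) (f b) (f c)⁻¹, hDc (h b hb) (D.inv_mem (h c hc)), ← mul_assoc,
      mul_inv_cancel_right]
  have hfix : ∀ b ∈ B, ∀ b' ∈ B, (f b)⁻¹ * f b' ∈ B → b⁻¹ * b' ∈ C := by
    intro b hb b' hb' hβ
    refine ⟨B.mul_mem (B.inv_mem hb) hb', ?_⟩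
    suffices hs : M ≤ Subgroup.centralizer {b⁻¹ * b'} from
      mem_centralizer_iff.mpr fun m hm => (mem_centralizer_iff.mp (hs hm) _ rfl).symm
    refine (closure_le _).mpr ?_
    rintro _ ⟨c, hc, rfl⟩
    rw [SetLike.mem_coe, mem_centralizer_iff]
    intro y hy
    rw [Set.mem_singleton_iff] at hy
    subst hy
    set β := (f b)⁻¹ * f b' with hβdef
    have hb'eq : f b' = f b * β := by rw [hβdef]; group
    have hcb : c * f b * c⁻¹ ∈ D := (mem_normalizer_iff.mp (hBD hc) _).mp (h b hb)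
    have e : c * f b' * c⁻¹ * (f b')⁻¹ = c * f b * c⁻¹ * (f b)⁻¹ := by
      rw [hb'eq]
      have : c * (f b * β) * c⁻¹ = c * f b * c⁻¹ * β := by
        rw [show c * (f b * β) * c⁻¹ = c * f b * (β * c⁻¹) by group, hBc hβ (B.inv_mem hc)]
        group
      rw [this]; group
    rw [hrel b' hb' c hc, hrel b hb c hc] at e
    have e2 : b' * f c * b'⁻¹ = b * f c * b⁻¹ := mul_right_cancel e
    show b⁻¹ * b' * f c = f c * (b⁻¹ * b')
    calc b⁻¹ * b' * f c = b⁻¹ * (b' * f c * b'⁻¹) * b' := by group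
      _ = b⁻¹ * (b * f c * b⁻¹) * b' := by rw [e2]
      _ = f c * (b⁻¹ * b') := by group
  -- the map `b ↦ [b, x]` separates the cosets of `C` modulo `B`
  let g : ↥B ⧸ C.subgroupOf B → ↥M ⧸ B.subgroupOf M := fun q =>
    QuotientGroup.mk ⟨f (q.out : G), mem_commWith x q.out.2⟩
  have hinj : Function.Injective g := by
    intro q q' hqq'
    rw [← q.out_eq, ← q'.out_eq, QuotientGroup.eq, mem_subgroupOf]
    refine hfix _ q.out.2 _ q'.out.2 ?_
    simpa [g, QuotientGroup.eq, mem_subgroupOf] using hqq'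
  have h1 : C.relIndex B ≤ B.relIndex M := Nat.card_le_card_of_injective g hinj
  have h2 : Nat.card C * C.relIndex B = Nat.card B := card_mul_relIndex_of_le _ _ inf_le_left
  have h3 : B.relIndex M ≤ C.relIndex M :=
    Nat.le_of_dvd (Nat.pos_of_ne_zero index_ne_zero_of_finite) (relIndex_dvd_of_le_left M inf_le_left)
  have h4 : Nat.card C * C.relIndex (M ⊔ C) = Nat.card ↥(M ⊔ C) := card_mul_relIndex_of_le _ _ le_sup_right
  have h5 : C.relIndex M ≤ C.relIndex (M ⊔ C) :=
    relIndex_le_of_le_right le_sup_left index_ne_zero_of_finite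
  show Nat.card B ≤ Nat.card ↥(M ⊔ C)
  rw [← h2, ← h4]
  exact Nat.mul_le_mul_left _ (h1.trans (h3.trans h5))

/-- If `x` does not normalise `B` then the replacement meets `D` in a larger subgroup. -/
theorem inf_lt_replaceAt_inf {B D : Subgroup G} (hD : IsMulCommutative D) {x : G}
    (h : ∀ b ∈ B, b * x * b⁻¹ * x⁻¹ ∈ D) (hx : ¬ ∀ b ∈ B, x * b * x⁻¹ ∈ B)
    (hB : IsMulCommutative B) :
    B ⊓ D < replaceAt B x ⊓ D := by
  refine lt_of_le_of_ne ?_ ?_
  · refine fun y hy => ⟨mem_sup_right ⟨hy.1, mem_centralizer_iff.mpr fun m hm => ?_⟩, hy.2⟩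
    exact commute_of_mem_isMulCommutative hD (commWith_le h hm) hy.2
  · intro he
    apply hx
    intro b hb
    have hm : b⁻¹ * x * (b⁻¹)⁻¹ * x⁻¹ ∈ B ⊓ D := he ▸
      ⟨mem_sup_left (mem_commWith x (B.inv_mem hb)), h _ (B.inv_mem hb)⟩
    have : x * b * x⁻¹ = b * (b⁻¹ * x * (b⁻¹)⁻¹ * x⁻¹) := by group
    rw [this]; exact B.mul_mem hb hm.1

end CfsgLib.LocalEvenBasic
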