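import Mathlib
import Cfsg.Prelude.Def_DStar
import Cfsg.Agent.LocalEvenBasic.Replacement

/-! Elementary facts on `D*(S)`. -/

namespace CfsgLib.LocalEvenBasic

open Subgroup Cfsg
open scoped commutatorElement

variable {S : Type*} [Group S]

/-- If the commutators of `x` with the abelian group `A` commute with `A` and `x`, then `⟨A, x⟩`
has class at most two. -/
theorem class_two_sup_zpowers {A : Subgroup S} (hA : IsMulCommutative A) {x : S}
    (h : ∀ a ∈ A, (∀ a' ∈ A, ⁅a, x⁆ * a' = a' * ⁅a, x⁆) ∧ ⁅a, x⁆ * x = x * ⁅a, x⁆) :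
    ⁅⁅A ⊔ zpowers x, A ⊔ zpowers x⁆, A ⊔ zpowers x⁆ = ⊥ := by
  set H := A ⊔ zpowers x with hH
  set T : Set S := (A : Set S) ∪ {x} with hT
  have hcl : H = Subgroup.closure T := by
    rw [hT, Subgroup.closure_union, Subgroup.closure_eq, hH, zpowers_eq_closure]
  have hZ : ∀ s ∈ T, ∀ t ∈ T, ⁅s, t⁆ ∈ Subgroup.centralizer (H : Set S) := by
    have hax : ∀ a ∈ A, ⁅a, x⁆ ∈ Subgroup.centralizer (H : Set S) := by
      intro a ha
      have : H ≤ Subgroup.centralizer {⁅a, x⁆} := by
        refine sup_le (fun a' ha' => mem_centralizer_iff.mpr ?_) (zpowers_le.mpr (mem_centralizer_iff.mpr ?_))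
        · rintro _ rfl; exact (h a ha).1 a' ha'
        · rintro _ rfl; exact (h a ha).2
      exact mem_centralizer_iff.mpr fun y hy => (mem_centralizer_iff.mp (this hy) _ rfl).symm
    rintro s (hs | hs) t (ht | ht)
    · rw [commutatorElement_eq_one_iff_commute.mpr (commute_of_mem_isMulCommutative hA hs ht)]
      exact one_mem _
    · rw [Set.mem_singleton_iff.mp ht]; exact hax s hs
    · rw [Set.mem_singleton_iff.mp hs, ← commutatorElement_inv]; exact inv_mem (hax t ht)
    · rw [Set.mem_singleton_iff.mp hs, Set.mem_singleton_iff.mp ht, commutatorElement_self]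
      exact one_mem _
  have hcen : ∀ z ∈ Subgroup.centralizer (H : Set S), ∀ k ∈ H, k * z * k⁻¹ = z := by
    intro z hz k hk
    rw [mem_centralizer_iff.mp hz k hk]; group
  have key : ∀ g : S, ∀ U : Set S, U ⊆ H → (∀ u ∈ U, ⁅g, u⁆ ∈ Subgroup.centralizer (H : Set S)) →
      ∀ k ∈ Subgroup.closure U, ⁅g, k⁆ ∈ Subgroup.centralizer (H : Set S) := by
    intro g U hU hg k hk
    have hUH : Subgroup.closure U ≤ H := (closure_le _).mpr hU
    induction hk using closure_induction with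
    | mem u hu => exact hg u hu
    | one => simp
    | mul a b ha _ iha ihb =>
      have : ⁅g, a * b⁆ = ⁅g, a⁆ * (a * ⁅g, b⁆ * a⁻¹) := by simp only [commutatorElement_def]; group
      rw [this, hcen _ ihb a (hUH ha)]
      exact mul_mem iha ihb
    | inv a ha iha =>
      have h1 : a⁻¹ * ⁅g, a⁆ * a⁻¹⁻¹ = ⁅g, a⁆ := hcen _ iha _ (hUH (inv_mem ha))
      have h2 : ⁅g, a⁻¹⁆ = (a⁻¹ * ⁅g, a⁆ * a⁻¹⁻¹)⁻¹ := by simp only [commutatorElement_def]; group
      rw [h2, h1]; exact inv_mem iha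
  have hTH : T ⊆ H := by rw [hcl]; exact subset_closure
  have h1 : ∀ s ∈ T, ∀ k ∈ H, ⁅s, k⁆ ∈ Subgroup.centralizer (H : Set S) := by
    intro s hs k hk
    exact key s T hTH (hZ s hs) k (hcl ▸ hk)
  have h2 : ⁅H, H⁆ ≤ Subgroup.centralizer (H : Set S) := by
    rw [commutator_le]
    intro g hg k hk
    refine key g T hTH (fun u hu => ?_) k (hcl ▸ hk)
    rw [← commutatorElement_inv]; exact inv_mem (h1 u hu g hg)
  exact commutator_eq_bot_iff_le_centralizer.mpr h2

/-- A member of the family centralises an abelian subgroup with which it normalises mutually. -/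
theorem dStarFamily_centralizes {A B : Subgroup S} (hA : A ∈ dStarFamily S) (hB : IsMulCommutative B)
    (hAB : A ≤ Subgroup.normalizer (B : Set S)) (hBA : B ≤ Subgroup.normalizer (A : Set S)) :
    A ≤ Subgroup.centralizer (B : Set S) := by
  intro a ha
  refine mem_centralizer_iff.mpr fun x hx => (hA.2 x ?_ a ha).symm
  refine class_two_sup_zpowers hA.1 fun c hc => ?_
  have h1 : ⁅c, x⁆ ∈ A := by
    have : ⁅c, x⁆ = c * (x * c⁻¹ * x⁻¹) := by simp only [commutatorElement_def]; group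
    rw [this]; exact A.mul_mem hc ((mem_normalizer_iff.mp (hBA hx) _).mp (A.inv_mem hc))
  have h2 : ⁅c, x⁆ ∈ B := by
    have : ⁅c, x⁆ = (c * x * c⁻¹) * x⁻¹ := rfl
    rw [this]; exact B.mul_mem ((mem_normalizer_iff.mp (hAB hc) _).mp hx) (B.inv_mem hx)
  exact ⟨fun a' ha' => commute_of_mem_isMulCommutative hA.1 h1 ha',
    commute_of_mem_isMulCommutative hB h2 hx⟩

variable [Finite S] {p : ℕ} [Fact p.Prime]

/-- A member of the family centralises every normal abelian subgroup of a `p`-group. -/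
theorem dStarFamily_centralizes_normal (hS : IsPGroup p S) {A M : Subgroup S}
    (hA : A ∈ dStarFamily S) [M.Normal] (hM : IsMulCommutative M) :
    A ≤ Subgroup.centralizer (M : Set S) := by
  haveI : Group.IsNilpotent S := hS.isNilpotent
  set D := M ⊓ Subgroup.centralizer (A : Set S) with hD
  have hAnorm : A ≤ Subgroup.normalizer (M : Set S) := fun a _ => mem_normalizer_iff.mpr fun m =>
    ⟨fun hm => Subgroup.Normal.conj_mem inferInstance m hm a, fun hm => by
      simpa [mul_assoc] using Subgroup.Normal.conj_mem inferInstance _ hm a⁻¹⟩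
  by_contra hne
  have hMN : ¬ M ≤ Subgroup.normalizer (A : Set S) := fun h =>
    hne (dStarFamily_centralizes hA hM hAnorm h)
  -- the subgroup `A D` is properly contained in `A M`
  have hADM : ¬ M ≤ A ⊔ D := fun h => hMN (h.trans (sup_le Subgroup.le_normalizer
    (inf_le_right.trans (centralizer_le_normalizer _))))
  obtain ⟨y, hyM, hyn, hy⟩ : ∃ y ∈ M, y ∈ Subgroup.normalizer ((A ⊔ D : Subgroup S) : Set S) ∧ y ∉ A ⊔ D := by
    set R := (A ⊔ D).subgroupOf (A ⊔ M) with hR
    have hRlt : R < ⊤ := lt_top_iff_ne_top.mpr fun h => hADM (le_sup_right.trans (subgroupOf_eq_top.mp h))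
    obtain ⟨z, hz, hzn⟩ := SetLike.exists_of_lt (normalizerCondition_of_isNilpotent R hRlt)
    obtain ⟨m, hm, a, ha, hzeq⟩ := (mem_sup_of_normal_left (s := M) (t := A)).mp (by rw [sup_comm]; exact z.2)
    have hle : A ⊔ D ≤ A ⊔ M := sup_le_sup_left inf_le_left _
    have hzN : (z : S) ∈ Subgroup.normalizer ((A ⊔ D : Subgroup S) : Set S) := by
      refine mem_normalizer_iff.mpr fun u => ⟨fun hu => ?_, fun hu => ?_⟩
      · exact mem_subgroupOf.mp ((mem_normalizer_iff.mp hz ⟨u, hle hu⟩).mp (mem_subgroupOf.mpr hu))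
      · have hu' : u ∈ A ⊔ M := by
          have := mul_mem (mul_mem (inv_mem z.2) (hle hu)) z.2
          simpa [mul_assoc] using this
        exact mem_subgroupOf.mp ((mem_normalizer_iff.mp hz ⟨u, hu'⟩).mpr (mem_subgroupOf.mpr hu))
    refine ⟨m, hm, ?_, fun h => hzn (mem_subgroupOf.mpr (by rw [← hzeq]; exact mul_mem h (mem_sup_left ha)))⟩
    have : m = (z : S) * a⁻¹ := by rw [← hzeq]; group
    rw [this]
    exact mul_mem hzN (Subgroup.le_normalizer (inv_mem (mem_sup_left ha)))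
  apply hy
  refine mem_sup_right ⟨hyM, mem_centralizer_iff.mpr fun a ha => ?_⟩
  refine hA.2 y (class_two_sup_zpowers hA.1 fun c hc => ?_) a ha
  have h2 : ⁅c, y⁆ ∈ M := by
    have : ⁅c, y⁆ = (c * y * c⁻¹) * y⁻¹ := rfl
    rw [this]; exact M.mul_mem (Subgroup.Normal.conj_mem inferInstance y hyM c) (M.inv_mem hyM)
  have h3 : ⁅c, y⁆ ∈ A ⊔ D := by
    have : ⁅c, y⁆ = c * (y * c⁻¹ * y⁻¹) := by simp only [commutatorElement_def]; group
    rw [this]
    exact mul_mem (mem_sup_left hc) ((mem_normalizer_iff.mp hyn _).mp (mem_sup_left (inv_mem hc)))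
  refine ⟨fun a' ha' => ?_, commute_of_mem_isMulCommutative hM h2 hyM⟩
  have hcomm : A ⊔ D ≤ Subgroup.centralizer (A : Set S) :=
    sup_le (fun u hu => mem_centralizer_iff.mpr fun v hv => commute_of_mem_isMulCommutative hA.1 hv hu)
      inf_le_right
  exact (mem_centralizer_iff.mp (hcomm h3) a' ha').symm

omit [Finite S] in
/-- A nontrivial normal subgroup of a finite `p`-group meets the centre. -/
theorem exists_mem_center_of_normal {T : Type*} [Group T] [Finite T] (hT : IsPGroup p T)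
    (Q : Subgroup T) [Q.Normal] (hQ : Q ≠ ⊥) : ∃ z ∈ Q ⊓ Subgroup.center T, z ≠ 1 := by
  haveI : Nontrivial ↥Q := (nontrivial_iff_ne_bot Q).mpr hQ
  obtain ⟨k, hk, hk'⟩ := (hT.to_subgroup Q).nontrivial_iff_card.mp inferInstance
  have hdvd : p ∣ Nat.card Q := hk' ▸ dvd_pow_self p hk.ne'
  have hP : IsPGroup p (ConjAct T) := hT.of_equiv ConjAct.toConjAct
  have h1 : (1 : Q) ∈ MulAction.fixedPoints (ConjAct T) Q := fun g => smul_one g
  obtain ⟨b, hb, hb1⟩ := hP.exists_fixed_point_of_prime_dvd_card_of_fixed_point Q hdvd h1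
  refine ⟨b, ⟨b.2, mem_center_iff.mpr fun g => ?_⟩, fun h => hb1 (Subtype.ext h.symm)⟩
  have hg : ((ConjAct.toConjAct g • b : Q) : T) = b := congrArg Subtype.val (hb (ConjAct.toConjAct g))
  rw [show ((ConjAct.toConjAct g • b : Q) : T) = g * b * g⁻¹ from rfl] at hg
  exact mul_inv_eq_iff_eq_mul.mp hg

/-- A maximal normal abelian subgroup of a `p`-group is its own centraliser. -/
theorem centralizer_le_of_maximal_normal_abelian (hS : IsPGroup p S) {M : Subgroup S} [M.Normal]
    (hM : IsMulCommutative M)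
    (hmax : ∀ B : Subgroup S, B.Normal → IsMulCommutative B → M ≤ B → B = M) :
    Subgroup.centralizer (M : Set S) ≤ M := by
  by_contra hne
  have hMC : M ≤ Subgroup.centralizer (M : Set S) := fun a ha =>
    mem_centralizer_iff.mpr fun b hb => commute_of_mem_isMulCommutative hM hb ha
  set C := Subgroup.centralizer (M : Set S) with hC
  haveI : C.Normal := inferInstanceAs (Subgroup.centralizer (M : Set S)).Normal
  set Q := C.map (QuotientGroup.mk' M) with hQ
  haveI : Q.Normal := Subgroup.Normal.map (inferInstance : C.Normal) _ (QuotientGroup.mk'_surjective M)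
  have hQ1 : Q ≠ ⊥ := fun h => hne (by
    have := (Subgroup.map_eq_bot_iff C).mp h
    rwa [QuotientGroup.ker_mk'] at this)
  have hpQ : IsPGroup p (S ⧸ M) := hS.to_quotient M
  haveI : Group.IsNilpotent (S ⧸ M) := hpQ.isNilpotent
  obtain ⟨z, hz, hz1⟩ := exists_mem_center_of_normal hpQ Q hQ1
  set B := (zpowers z).comap (QuotientGroup.mk' M) with hB
  haveI : (zpowers z).Normal := ⟨fun n hn g => by
    have hn' : n ∈ Subgroup.center (S ⧸ M) := zpowers_le.mpr hz.2 hn
    rw [mem_center_iff.mp hn' g, mul_inv_cancel_right]; exact hn⟩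
  obtain ⟨c, hc, hcz⟩ := Subgroup.mem_map.mp hz.1
  have hBeq : B ≤ M ⊔ zpowers c := by
    intro b hb
    obtain ⟨k, hk⟩ := mem_zpowers_iff.mp (mem_comap.mp hb)
    have : b * (c ^ k)⁻¹ ∈ M := by
      rw [← QuotientGroup.eq_one_iff]
      show (QuotientGroup.mk' M) (b * (c ^ k)⁻¹) = 1
      rw [map_mul, map_inv, map_zpow, hcz, hk, mul_inv_cancel]
    simpa using mul_mem (mem_sup_left (T := zpowers c) this) (mem_sup_right (zpow_mem_zpowers c k))
  have hBcomm : IsMulCommutative B := by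
    haveI h1 := isMulCommutative_sup hM (inferInstance : IsMulCommutative (zpowers c))
      (le_centralizer_iff.mp (zpowers_le.mpr hc))
    exact ⟨⟨fun a b => Subtype.ext (commute_of_mem_isMulCommutative h1 (hBeq a.2) (hBeq b.2))⟩⟩
  have hBM := hmax B (Subgroup.Normal.comap inferInstance _) hBcomm (fun m hm => by
    rw [hB, mem_comap, QuotientGroup.mk'_apply, (QuotientGroup.eq_one_iff m).mpr hm]; exact one_mem _)
  apply hz1
  have : c ∈ M := hBM ▸ (show c ∈ B by rw [hB, mem_comap, hcz]; exact mem_zpowers z)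
  rw [← hcz]; exact (QuotientGroup.eq_one_iff c).mpr this

theorem dStar_le_maximal_normal_abelian (hS : IsPGroup p S) {M : Subgroup S} [M.Normal]
    (hM : IsMulCommutative M)
    (hmax : ∀ B : Subgroup S, B.Normal → IsMulCommutative B → M ≤ B → B = M) :
    dStar S ≤ M :=
  sSup_le fun _ hA => (dStarFamily_centralizes_normal hS hA hM).trans
    (centralizer_le_of_maximal_normal_abelian hS hM hmax)

/-- `D*(S)` belongs to the family. -/
theorem dStar_mem_family (hS : IsPGroup p S) : dStar S ∈ dStarFamily S := by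
  obtain ⟨M, ⟨hMn, hMc⟩, hMmax⟩ := Set.Finite.exists_maximal
    (s := {B : Subgroup S | B.Normal ∧ IsMulCommutative B}) (Set.toFinite _)
    ⟨⊥, inferInstance, inferInstance⟩
  haveI := hMn
  have hle : dStar S ≤ M := dStar_le_maximal_normal_abelian hS hMc
    fun B hB1 hB2 hle => le_antisymm (hMmax ⟨hB1, hB2⟩ hle) hle
  refine ⟨⟨⟨fun a b => Subtype.ext (commute_of_mem_isMulCommutative hMc (hle a.2) (hle b.2))⟩⟩, ?_⟩
  intro x hx a ha
  have : dStar S ≤ Subgroup.centralizer {x} := sSup_le fun A hA b hb => by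
    refine mem_centralizer_iff.mpr fun y hy => ?_
    rw [Set.mem_singleton_iff.mp hy]
    refine (hA.2 x ?_ b hb).symm
    rw [← le_bot_iff, ← hx]
    have hle' : A ⊔ zpowers x ≤ dStar S ⊔ zpowers x := sup_le_sup_right (le_sSup hA) _
    exact commutator_mono (commutator_mono hle' hle') hle'
  exact (mem_centralizer_iff.mp (this ha) x rfl).symm

omit [Finite S] in
theorem center_le_dStar : Subgroup.center S ≤ dStar S :=
  le_sSup ⟨inferInstance, fun x _ a ha => (mem_center_iff.mp ha x).symm⟩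

omit [Finite S] in
instance dStar_characteristic : (dStar S).Characteristic := by
  rw [characteristic_iff_map_le]
  intro e
  rw [dStar, (gc_map_comap e.toMonoidHom).l_sSup]
  refine iSup₂_le fun A hA => le_sSup ?_
  refine ⟨?_, fun x hx a ha => ?_⟩
  · haveI := hA.1
    infer_instance
  · obtain ⟨b, hb, rfl⟩ := Subgroup.mem_map.mp ha
    have hx' : e (e.symm x) = x := e.apply_symm_apply x
    have : b * e.symm x = e.symm x * b := by
      refine hA.2 _ ?_ b hb
      apply map_injective (f := e.toMonoidHom) e.injective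
      rw [map_commutator, map_commutator, Subgroup.map_sup, MonoidHom.map_zpowers, Subgroup.map_bot]
      simpa [hx'] using hx
    rw [← hx']
    show e b * e (e.symm x) = e (e.symm x) * e b
    rw [← map_mul, ← map_mul, this]

/-- `D*(S)` lies in every abelian subgroup of largest order. -/
theorem dStar_le_maxAbelian (hS : IsPGroup p S) {B : Subgroup S} (hB : IsMulCommutative B)
    (hmax : ∀ C : Subgroup S, IsMulCommutative C → Nat.card C ≤ Nat.card B) :
    dStar S ≤ B := by
  haveI : Group.IsNilpotent S := hS.isNilpotent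
  by_contra hne
  set D := dStar S with hDdef
  have hDfam : D ∈ dStarFamily S := dStar_mem_family hS
  obtain ⟨B₁, ⟨hB1, hB1max, hB1D⟩, hbig⟩ : ∃ B₁ : Subgroup S, (IsMulCommutative B₁ ∧
      (∀ C : Subgroup S, IsMulCommutative C → Nat.card C ≤ Nat.card B₁) ∧ ¬ D ≤ B₁) ∧
      ∀ C : Subgroup S, IsMulCommutative C →
      (∀ E : Subgroup S, IsMulCommutative E → Nat.card E ≤ Nat.card C) → ¬ D ≤ C →
        B₁ ⊓ D ≤ C ⊓ D → C ⊓ D = B₁ ⊓ D := by
    obtain ⟨E, ⟨C, hC, hCE⟩, hEmax⟩ := Set.Finite.exists_maximal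
      (s := (fun C => C ⊓ D) '' {C : Subgroup S | IsMulCommutative C ∧
        (∀ E : Subgroup S, IsMulCommutative E → Nat.card E ≤ Nat.card C) ∧ ¬ D ≤ C})
      (Set.toFinite _) ⟨_, B, ⟨hB, hmax, hne⟩, rfl⟩
    refine ⟨C, hC, fun C' h1 h2 h3 h4 => le_antisymm ?_ h4⟩
    have := hEmax ⟨C', ⟨h1, h2, h3⟩, rfl⟩ (hCE ▸ h4)
    exact this.trans hCE.ge
  have hDn : B₁ ≤ Subgroup.normalizer (D : Set S) := by
    haveI : D.Normal := inferInstanceAs (dStar S).Normal
    rw [normalizer_eq_top D]; exact le_top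
  have hDN : ¬ D ≤ Subgroup.normalizer (B₁ : Set S) := by
    intro h
    have h1 := dStarFamily_centralizes hDfam hB1 h hDn
    have h2 : IsMulCommutative ↥(D ⊔ B₁) := isMulCommutative_sup hDfam.1 hB1 h1
    have h3 : B₁ = D ⊔ B₁ := eq_of_le_of_card_ge le_sup_right (hB1max _ h2)
    exact hB1D (h3 ▸ le_sup_left)
  set R := D ⊓ Subgroup.normalizer (B₁ : Set S) with hR
  haveI : D.Normal := inferInstanceAs (dStar S).Normal
  obtain ⟨x, hxD, hxR, hxB⟩ : ∃ x ∈ D, (∀ b ∈ B₁, b * x * b⁻¹ * x⁻¹ ∈ R) ∧ x ∉ R := by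
    set T := (R ⊔ B₁).subgroupOf (D ⊔ B₁) with hT
    have hRT : R ⊔ B₁ ≤ Subgroup.normalizer (B₁ : Set S) := sup_le inf_le_right Subgroup.le_normalizer
    have hle : R ⊔ B₁ ≤ D ⊔ B₁ := sup_le_sup_right inf_le_left _
    have hTlt : T < ⊤ := lt_top_iff_ne_top.mpr fun h =>
      hDN ((le_sup_left.trans (subgroupOf_eq_top.mp h)).trans hRT)
    obtain ⟨z, hz, hzn⟩ := SetLike.exists_of_lt (normalizerCondition_of_isNilpotent T hTlt)
    obtain ⟨d, hd, b, hb, hzeq⟩ := (mem_sup_of_normal_left (s := D) (t := B₁)).mp z.2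
    refine ⟨d, hd, fun c hc => ?_, fun h => hzn (mem_subgroupOf.mpr
      (hzeq ▸ mul_mem (mem_sup_left h) (mem_sup_right hb)))⟩
    refine ⟨D.mul_mem (Subgroup.Normal.conj_mem inferInstance d hd c) (D.inv_mem hd), hRT ?_⟩
    have hzc : (z : S) * c⁻¹ * (z : S)⁻¹ ∈ R ⊔ B₁ :=
      mem_subgroupOf.mp ((mem_normalizer_iff.mp hz ⟨c⁻¹, mem_sup_right (inv_mem hc)⟩).mp
        (mem_subgroupOf.mpr (mem_sup_right (inv_mem hc))))
    have hbc : b * c⁻¹ * b⁻¹ = c⁻¹ := by
      rw [commute_of_mem_isMulCommutative hB1 hb (inv_mem hc), mul_inv_cancel_right]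
    have : c * d * c⁻¹ * d⁻¹ = c * ((z : S) * c⁻¹ * (z : S)⁻¹) := by
      rw [← hzeq, show d * b * c⁻¹ * (d * b)⁻¹ = d * (b * c⁻¹ * b⁻¹) * d⁻¹ by group, hbc]; group
    rw [this]
    exact mul_mem (mem_sup_right hc) hzc
  have hcom : ∀ b ∈ B₁, b * x * b⁻¹ * x⁻¹ ∈ D := fun b hb => (hxR b hb).1
  have hxnorm : ¬ ∀ b ∈ B₁, x * b * x⁻¹ ∈ B₁ := fun h => hxB ⟨hxD, by
    show x ∈ Subgroup.normalizer (B₁ : Set S)
    rw [mem_normalizer_iff]
    have hmap : B₁.map (MulAut.conj x).toMonoidHom = B₁ := eq_of_le_of_card_ge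
      (by rintro _ ⟨b, hb, rfl⟩; exact h b hb)
      (Nat.card_congr (B₁.equivMapOfInjective _ (MulAut.conj x).injective).toEquiv).le
    intro b
    refine ⟨h b, fun hb => ?_⟩
    obtain ⟨c, hc, hcb⟩ := Subgroup.mem_map.mp (hmap.symm ▸ hb)
    exact (MulAut.conj x).injective hcb ▸ hc⟩
  have hBs : IsMulCommutative ↥(replaceAt B₁ x) := replaceAt_isMulCommutative hB1 hDfam.1 hcom
  have hsmax : ∀ E : Subgroup S, IsMulCommutative E → Nat.card E ≤ Nat.card ↥(replaceAt B₁ x) :=
    fun E hE => (hB1max E hE).trans (card_le_replaceAt hB1 hDfam.1 hDn hcom)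
  have hlt := inf_lt_replaceAt_inf hDfam.1 hcom hxnorm hB1
  by_cases hDle : D ≤ replaceAt B₁ x
  · exact hDN (hDle.trans (sup_le ((commWith_le (fun b hb => hxR b hb)).trans inf_le_right)
      (inf_le_left.trans Subgroup.le_normalizer)))
  · exact hlt.ne (hbig _ hBs hsmax hDle hlt.le).symm

end CfsgLib.LocalEvenBasic
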