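import Mathlib

/-! A Sylow subgroup meets a normal subgroup in a Sylow subgroup of it. -/

namespace CfsgLib.LocalEvenBasic

open Subgroup

variable {G : Type*} [Group G] [Finite G] {p : ℕ} [Fact p.Prime]

theorem exists_sylow_map_eq_inf (P : Sylow p G) (N : Subgroup G) [N.Normal] :
    ∃ Q : Sylow p ↥N, (Q : Subgroup ↥N).map N.subtype = (P : Subgroup G) ⊓ N := by
  have h0 : IsPGroup p ↥(((P : Subgroup G) ⊓ N).subgroupOf N) :=
    (P.isPGroup'.to_le inf_le_left).of_equiv (subgroupOfEquivOfLe inf_le_right).symm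
  obtain ⟨Q, hQ⟩ := h0.exists_le_sylow
  refine ⟨Q, (eq_of_le_of_card_ge ?_ ?_).symm⟩
  · intro y hy
    exact ⟨⟨y, hy.2⟩, hQ (mem_subgroupOf.mpr hy), rfl⟩
  · obtain ⟨R, hR⟩ := (Q.isPGroup'.map N.subtype).exists_le_sylow
    obtain ⟨g, hg⟩ := MulAction.exists_smul_eq G P R
    have hRN : (R : Subgroup G) ⊓ N = ((P : Subgroup G) ⊓ N).map (MulAut.conj g).toMonoidHom := by
      rw [map_inf _ _ _ (MulAut.conj g).injective, ← hg, Sylow.coe_subgroup_smul]
      congr 1
      ext y
      constructor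
      · intro hy
        exact ⟨g⁻¹ * y * g, by simpa using Subgroup.Normal.conj_mem inferInstance y hy g⁻¹, by simp [mul_assoc]⟩
      · rintro ⟨z, hz, rfl⟩
        exact Subgroup.Normal.conj_mem inferInstance z hz g
    calc Nat.card ((Q : Subgroup ↥N).map N.subtype) ≤ Nat.card ↥((R : Subgroup G) ⊓ N) :=
          card_le_of_le (le_inf hR (map_subtype_le _))
      _ = _ := by rw [hRN]; exact Nat.card_congr (equivMapOfInjective _ _ (MulAut.conj g).injective).symm.toEquiv

end CfsgLib.LocalEvenBasic
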