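import Mathlib
import Cfsg.Agent.DicksonPSL2.Counting

/-!
# Groups of invertible `2 × 2` matrices of order prime to the characteristic

Few lines can be eigenlines of elements having large order modulo scalars.
-/

set_option autoImplicit false

namespace CfsgLib.LocalEvenBasic.CoprimeLinearTwo

open CfsgLib.DicksonPSL2

section Partition

variable {Q : Type*} [Group Q] [Finite Q]

/-- In a group partitioned by a family of subgroups with normaliser index at most `2`, the members
of order at least `4` form one class of at most `6` subgroups, of at most one if the order is `≥ 6`. -/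
theorem large_members (S : Set (Subgroup Q)) (stable : ∀ C ∈ S, ∀ g, conjS g C ∈ S)
    (disj : ∀ C ∈ S, ∀ D ∈ S, ∀ x, x ∈ C → x ∈ D → x ≠ 1 → C = D)
    (cover : ∀ x : Q, x ≠ 1 → ∃ C ∈ S, x ∈ C) (hbot : ∀ C ∈ S, 2 ≤ Nat.card C)
    (hN : ∀ C ∈ S, Nat.card (Subgroup.normalizer (C : Set Q)) = Nat.card C ∨
      Nat.card (Subgroup.normalizer (C : Set Q)) = 2 * Nat.card C) :
    Set.ncard {C ∈ S | 4 ≤ Nat.card C} ≤ 6 ∧
      ((∃ C ∈ S, 6 ≤ Nat.card C) → Set.ncard {C ∈ S | 4 ≤ Nat.card C} ≤ 1) := by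
  classical
  obtain ⟨R, hR, hcov, -, hsum⟩ := exists_reps S stable disj
  by_cases hex : ∃ A ∈ R, 4 ≤ Nat.card A
  swap
  · push Not at hex
    have : {C ∈ S | 4 ≤ Nat.card C} = ∅ := by
      rw [Set.eq_empty_iff_forall_notMem]
      rintro C ⟨hC, h4⟩
      obtain ⟨D, hD, g, rfl⟩ := hcov C hC
      rw [card_conjS] at h4
      exact absurd (hex D hD) (not_lt.mpr h4)
    rw [this, Set.ncard_empty]
    exact ⟨Nat.zero_le _, fun _ => Nat.zero_le _⟩
  obtain ⟨A, hA, hA4⟩ := hex
  -- the equation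
  have hpts : (Nat.card {x : Q // x ≠ 1 ∧ ∃ C ∈ S, x ∈ C} : ℚ) = (Nat.card Q : ℚ) - 1 := by
    have := Fintype.ofFinite Q
    rw [Nat.card_congr (Equiv.subtypeEquivRight fun x => and_iff_left_of_imp (cover x)),
      Nat.card_eq_fintype_card, Fintype.card_subtype_compl, Fintype.card_subtype_eq,
      Nat.card_eq_fintype_card, Nat.cast_sub Fintype.card_pos, Nat.cast_one]
  rw [hpts] at hsum
  set N : ℕ := Nat.card Q with hNdef
  have hN0 : (0 : ℚ) < N := by exact_mod_cast Nat.card_pos
  let w : Subgroup Q → ℚ :=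
    fun C => ((Nat.card C : ℚ) - 1) / Nat.card (Subgroup.normalizer (C : Set Q))
  have heq : w A + ∑ C ∈ R.erase A, w C = 1 - 1 / (N : ℚ) := by
    rw [Finset.add_sum_erase R w hA, eq_sub_iff_add_eq, one_div]
    field_simp
    linarith
  -- weights
  have hw : ∀ C ∈ R, (Nat.card (Subgroup.normalizer (C : Set Q)) = Nat.card C ∧
      w C = 1 - 1 / (Nat.card C : ℚ) ∧ 1 / 2 ≤ w C) ∨
      (Nat.card (Subgroup.normalizer (C : Set Q)) = 2 * Nat.card C ∧
      w C = 1 / 2 - 1 / (2 * (Nat.card C : ℚ)) ∧ 1 / 4 ≤ w C) := by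
    intro C hC
    have h2 : (2 : ℚ) ≤ Nat.card C := by exact_mod_cast hbot C (hR C hC)
    have h2' : 1 / (Nat.card C : ℚ) ≤ 1 / 2 := one_div_le_one_div_of_le (by norm_num) h2
    rcases hN C (hR C hC) with h | h
    · have he : w C = 1 - 1 / (Nat.card C : ℚ) := by
        simp only [w, h]
        field_simp
      exact Or.inl ⟨h, he, by linarith⟩
    · have he : w C = 1 / 2 - 1 / (2 * (Nat.card C : ℚ)) := by
        simp only [w, h]
        push_cast
        field_simp
      have : 1 / (2 * (Nat.card C : ℚ)) = (1 / (Nat.card C : ℚ)) / 2 := by field_simp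
      exact Or.inr ⟨h, he, by linarith⟩
  have ha4 : 1 / (Nat.card A : ℚ) ≤ 1 / 4 :=
    one_div_le_one_div_of_le (by norm_num) (by exact_mod_cast hA4)
  have hNpos : (0 : ℚ) < 1 / N := by positivity
  -- what has to be shown
  suffices h : (∀ C ∈ R, C ≠ A → Nat.card C ≤ 3) ∧
      ((Subgroup.normalizer (A : Set Q)).index = 1 ∨
        ((Subgroup.normalizer (A : Set Q)).index ≤ 6 ∧ Nat.card A < 6)) by
    obtain ⟨hsmall, hidx⟩ := h
    have hsub : {C ∈ S | 4 ≤ Nat.card C} ⊆ Set.range fun g : Q => conjS g A := by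
      rintro C ⟨hC, h4⟩
      obtain ⟨D, hD, g, rfl⟩ := hcov C hC
      rw [card_conjS] at h4
      by_cases hDA : D = A
      · exact ⟨g, by rw [hDA]⟩
      · exact absurd (hsmall D hD hDA) (by omega)
    have hle : Set.ncard {C ∈ S | 4 ≤ Nat.card C} ≤ (Subgroup.normalizer (A : Set Q)).index := by
      rw [← card_conjugates A, Nat.card_coe_set_eq]
      exact Set.ncard_le_ncard hsub (Set.toFinite _)
    refine ⟨hle.trans ?_, ?_⟩
    · rcases hidx with h | ⟨h, -⟩ <;> omega
    · rintro ⟨C, hC, h6⟩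
      obtain ⟨g, hg⟩ := hsub ⟨hC, by omega⟩
      rcases hidx with h | ⟨-, hlt⟩
      · omega
      · rw [← hg, card_conjS] at h6; omega
  have hcardA : Nat.card (Subgroup.normalizer (A : Set Q)) *
      (Subgroup.normalizer (A : Set Q)).index = N := Subgroup.card_mul_index _
  rcases hw A hA with ⟨hnA, hwA, -⟩ | ⟨hnA, hwA, -⟩
  · -- self-normalising
    have hrest : R.erase A = ∅ := by
      by_contra hne
      obtain ⟨B, hB⟩ := Finset.nonempty_iff_ne_empty.mpr hne
      have h1 : w B ≤ ∑ C ∈ R.erase A, w C :=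
        Finset.single_le_sum (f := w) (fun C hC => by
          rcases hw C (Finset.mem_of_mem_erase hC) with ⟨-, -, h⟩ | ⟨-, -, h⟩ <;> linarith) hB
      rcases hw B (Finset.mem_of_mem_erase hB) with ⟨-, -, h⟩ | ⟨-, -, h⟩ <;> linarith
    rw [hrest, Finset.sum_empty, add_zero, hwA, sub_right_inj, one_div, one_div, inv_inj] at heq
    refine ⟨fun C hC hne => ?_, Or.inl ?_⟩
    · have := Finset.mem_erase.mpr ⟨hne, hC⟩
      rw [hrest] at this
      simp at this
    · have h' : Nat.card A = N := by exact_mod_cast heq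
      rw [hnA, h'] at hcardA
      exact Nat.eq_of_mul_eq_mul_left (Nat.card_pos (α := Q)) (hcardA.trans (mul_one N).symm)
  · -- index two
    have ha' : 1 / (2 * (Nat.card A : ℚ)) = (1 / (Nat.card A : ℚ)) / 2 := by field_simp
    have hNA : 1 / (N : ℚ) ≤ 1 / (2 * (Nat.card A : ℚ)) := by
      refine one_div_le_one_div_of_le (by positivity) ?_
      have : 2 * Nat.card A ≤ N := by
        rw [← hnA, hNdef]
        exact Nat.le_of_dvd Nat.card_pos (Subgroup.card_subgroup_dvd_card _)
      exact_mod_cast this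
    have hrest : ∑ C ∈ R.erase A, w C = 1 / 2 + 1 / (2 * (Nat.card A : ℚ)) - 1 / N := by linarith
    have hidx_of : ∀ u : ℕ, (N : ℚ) = 2 * (Nat.card A : ℚ) * u →
        (Subgroup.normalizer (A : Set Q)).index = u := by
      intro u h
      have h' : N = 2 * Nat.card A * u := by exact_mod_cast h
      rw [hnA] at hcardA
      exact Nat.eq_of_mul_eq_mul_left (show 0 < 2 * Nat.card A by omega) (hcardA.trans h')
    have hlow : ∀ C ∈ R.erase A, (1 / 4 : ℚ) ≤ w C := fun C hC => by
      rcases hw C (Finset.mem_of_mem_erase hC) with ⟨-, -, h⟩ | ⟨-, -, h⟩ <;> linarith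
    have hcount : ((R.erase A).card : ℚ) * (1 / 4) ≤ ∑ C ∈ R.erase A, w C := by
      have := Finset.card_nsmul_le_sum (R.erase A) w (1 / 4 : ℚ) hlow
      rwa [nsmul_eq_mul] at this
    have hc2 : (R.erase A).card ≤ 2 := by
      by_contra hcon
      have : (3 : ℚ) ≤ (R.erase A).card := by exact_mod_cast Nat.lt_of_not_le hcon
      linarith
    have hmemR : ∀ C ∈ R, C ≠ A → C ∈ R.erase A := fun C hC hne => Finset.mem_erase.mpr ⟨hne, hC⟩
    have hcases : (R.erase A).card = 0 ∨ (R.erase A).card = 1 ∨ (R.erase A).card = 2 := by omega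
    rcases hcases with h0 | h1 | h2
    · rw [Finset.card_eq_zero.mp h0, Finset.sum_empty] at hrest
      linarith
    · obtain ⟨B, hB⟩ := Finset.card_eq_one.mp h1
      have hBR : B ∈ R := Finset.mem_of_mem_erase (hB ▸ Finset.mem_singleton_self B)
      rw [hB, Finset.sum_singleton] at hrest
      have hB2 := hbot B (hR B hBR)
      have hBq : (2 : ℚ) ≤ Nat.card B := by exact_mod_cast hB2
      rcases hw B hBR with ⟨-, hwB, -⟩ | ⟨-, hwB, -⟩
      · have hb : Nat.card B = 2 := by
          by_contra hne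
          have : 1 / (Nat.card B : ℚ) ≤ 1 / 3 :=
            one_div_le_one_div_of_le (by norm_num) (by exact_mod_cast (by omega : 3 ≤ Nat.card B))
          linarith
        rw [hb] at hwB
        push_cast at hwB
        refine ⟨fun C hC hne => ?_, Or.inl (hidx_of 1 ?_)⟩
        · have := hmemR C hC hne
          rw [hB, Finset.mem_singleton] at this
          subst this; omega
        · have h3 : 1 / (N : ℚ) = 1 / (2 * (Nat.card A : ℚ)) := by linarith
          rw [one_div, one_div, inv_inj] at h3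
          simpa using h3
      · have : (0 : ℚ) < 1 / (2 * (Nat.card B : ℚ)) := by positivity
        linarith
    · obtain ⟨B, C, hBC, hBC'⟩ := Finset.card_eq_two.mp h2
      have hBR : B ∈ R := Finset.mem_of_mem_erase (by rw [hBC']; simp)
      have hCR : C ∈ R := Finset.mem_of_mem_erase (by rw [hBC']; simp)
      rw [hBC', Finset.sum_pair hBC] at hrest
      rcases hw B hBR with ⟨-, -, hB⟩ | ⟨-, hwB, -⟩
      · rcases hw C hCR with ⟨-, -, hC⟩ | ⟨-, -, hC⟩ <;> linarith
      rcases hw C hCR with ⟨-, -, hC⟩ | ⟨-, hwC, -⟩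
      · linarith [hlow B (by rw [hBC']; simp)]
      have key : ∀ b c : ℕ, 2 ≤ b → b ≤ c →
          1 / (N : ℚ) = 1 / (2 * (Nat.card A : ℚ)) + 1 / (2 * (b : ℚ)) + 1 / (2 * (c : ℚ)) - 1 / 2 →
          (b = 2 ∧ c = 2) ∨ (b = 2 ∧ c = 3) := by
        intro b c hb hbc h
        have bound : ∀ n m : ℕ, 0 < m → m ≤ n → 1 / (2 * (n : ℚ)) ≤ 1 / (2 * (m : ℚ)) :=
          fun n m hm hn => one_div_le_one_div_of_le (by positivity)
            (mul_le_mul_of_nonneg_left (by exact_mod_cast hn) (by norm_num))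
        rcases show b = 2 ∨ 3 ≤ b by omega with rfl | hb3
        · rcases show c = 2 ∨ c = 3 ∨ 4 ≤ c by omega with rfl | rfl | hc4
          · exact Or.inl ⟨rfl, rfl⟩
          · exact Or.inr ⟨rfl, rfl⟩
          · have := bound c 4 (by norm_num) hc4
            push_cast at this h
            linarith
        · have e1 := bound b 3 (by norm_num) hb3
          have e2 := bound c 3 (by norm_num) (by omega)
          push_cast at e1 e2
          linarith
      have hsol : (Nat.card B ≤ 3 ∧ Nat.card C ≤ 3) ∧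
          ((1 / (N : ℚ) = 1 / (2 * (Nat.card A : ℚ))) ∨
            1 / (N : ℚ) = 1 / (2 * (Nat.card A : ℚ)) - 1 / 12) := by
        have hB2 := hbot B (hR B hBR)
        have hC2 := hbot C (hR C hCR)
        rcases le_total (Nat.card B) (Nat.card C) with h | h
        · rcases key _ _ hB2 h (by linarith) with ⟨e1, e2⟩ | ⟨e1, e2⟩ <;>
            rw [e1] at hwB <;> rw [e2] at hwC <;> push_cast at hwB hwC
          · exact ⟨by omega, Or.inl (by linarith)⟩
          · exact ⟨by omega, Or.inr (by linarith)⟩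
        · rcases key _ _ hC2 h (by linarith) with ⟨e1, e2⟩ | ⟨e1, e2⟩ <;>
            rw [e1] at hwC <;> rw [e2] at hwB <;> push_cast at hwB hwC
          · exact ⟨by omega, Or.inl (by linarith)⟩
          · exact ⟨by omega, Or.inr (by linarith)⟩
      obtain ⟨⟨hb3, hc3⟩, hval⟩ := hsol
      refine ⟨fun D hD hne => ?_, ?_⟩
      · have := hmemR D hD hne
        rw [hBC', Finset.mem_insert, Finset.mem_singleton] at this
        rcases this with rfl | rfl <;> assumption
      rcases hval with h3 | h3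
      · refine Or.inl (hidx_of 1 ?_)
        rw [one_div, one_div, inv_inj] at h3
        simpa using h3
      · have hlt : Nat.card A < 6 := by
          by_contra hge
          have : 1 / (Nat.card A : ℚ) ≤ 1 / 6 :=
            one_div_le_one_div_of_le (by norm_num) (by exact_mod_cast Nat.le_of_not_lt hge)
          linarith
        refine Or.inr ⟨?_, hlt⟩
        rcases show Nat.card A = 4 ∨ Nat.card A = 5 by omega with e | e
        · rw [e] at h3
          have h24 : (N : ℚ) = 24 := by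
            norm_num at h3
            field_simp at h3
            linarith
          rw [hidx_of 3 (by rw [e, h24]; norm_num)]
          norm_num
        · rw [e] at h3
          have h60 : (N : ℚ) = 60 := by
            norm_num at h3
            field_simp at h3
            linarith
          rw [hidx_of 6 (by rw [e, h60]; norm_num)]

end Partition

section Linear

open Matrix

variable {F : Type*} [Field F]

theorem commute_eq_add_smul {g h : Matrix (Fin 2) (Fin 2) F}
    (hg : ∀ c : F, g ≠ c • 1) (hc : h * g = g * h) : ∃ a b : F, h = a • 1 + b • g := by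
  have e00 := congrFun (congrFun hc 0) 0
  have e01 := congrFun (congrFun hc 0) 1
  have e10 := congrFun (congrFun hc 1) 0
  simp [Matrix.mul_apply, Fin.sum_univ_two] at e00 e01 e10
  by_cases h01 : g 0 1 = 0
  · by_cases h10 : g 1 0 = 0
    · have hd : g 0 0 - g 1 1 ≠ 0 := by
        intro hd
        refine hg (g 0 0) (Matrix.ext fun i j => ?_)
        fin_cases i <;> fin_cases j <;> simp [h01, h10, sub_eq_zero.mp hd]
      have k01 : h 0 1 = 0 := by
        have : h 0 1 * (g 0 0 - g 1 1) = 0 := by rw [h01] at e01; linear_combination -e01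
        exact (mul_eq_zero.mp this).resolve_right hd
      have k10 : h 1 0 = 0 := by
        have : h 1 0 * (g 0 0 - g 1 1) = 0 := by rw [h10] at e10; linear_combination e10
        exact (mul_eq_zero.mp this).resolve_right hd
      refine ⟨h 0 0 - (h 0 0 - h 1 1) / (g 0 0 - g 1 1) * g 0 0,
        (h 0 0 - h 1 1) / (g 0 0 - g 1 1), Matrix.ext fun i j => ?_⟩
      fin_cases i <;> fin_cases j <;> simp [h01, h10, k01, k10]
      field_simp
      ring
    · refine ⟨h 0 0 - h 1 0 / g 1 0 * g 0 0, h 1 0 / g 1 0, Matrix.ext fun i j => ?_⟩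
      fin_cases i <;> fin_cases j <;> simp
      · rw [h01] at e00 ⊢
        have : h 0 1 = 0 := (mul_eq_zero.mp (show h 0 1 * g 1 0 = 0 by linear_combination e00)).resolve_right h10
        rw [this]; ring
      · field_simp
      · field_simp
        linear_combination e10
  · refine ⟨h 0 0 - h 0 1 / g 0 1 * g 0 0, h 0 1 / g 0 1, Matrix.ext fun i j => ?_⟩
    fin_cases i <;> fin_cases j <;> simp
    · field_simp
    · field_simp
      linear_combination -e00
    · field_simp
      linear_combination -e01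

theorem sq_eq (g : Matrix (Fin 2) (Fin 2) F) : g * g = g.trace • g - g.det • 1 := by
  refine Matrix.ext fun i j => ?_
  fin_cases i <;> fin_cases j <;>
    simp [Matrix.mul_apply, Fin.sum_univ_two, Matrix.trace_fin_two, Matrix.det_fin_two] <;> ring

theorem not_three_eigenvectors {g : Matrix (Fin 2) (Fin 2) F} (hg : ∀ c : F, g ≠ c • 1)
    (v : Fin 3 → Fin 2 → F) (a : Fin 3 → F) (he : ∀ i, g *ᵥ v i = a i • v i)
    (hind : ∀ i j, i ≠ j → v i 0 * v j 1 - v i 1 * v j 0 ≠ 0) : False := by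
  have hcoord : ∀ i, g 0 0 * v i 0 + g 0 1 * v i 1 = a i * v i 0 ∧
      g 1 0 * v i 0 + g 1 1 * v i 1 = a i * v i 1 := fun i => by
    have h0 := congrFun (he i) 0
    have h1 := congrFun (he i) 1
    simp [Matrix.mulVec, dotProduct, Fin.sum_univ_two] at h0 h1
    exact ⟨h0, h1⟩
  obtain ⟨x0, y0⟩ := hcoord 0
  obtain ⟨x1, y1⟩ := hcoord 1
  obtain ⟨x2, y2⟩ := hcoord 2
  have d01 := hind 0 1 (by decide)
  have d12 := hind 1 2 (by decide)
  have d02 := hind 0 2 (by decide)
  -- the third vector in terms of the first two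
  have k0 : v 2 0 * (v 0 0 * v 1 1 - v 0 1 * v 1 0) =
      (v 2 0 * v 1 1 - v 2 1 * v 1 0) * v 0 0 + (v 0 0 * v 2 1 - v 0 1 * v 2 0) * v 1 0 := by ring
  have s0 : (a 2 - a 0) * (v 2 0 * v 1 1 - v 2 1 * v 1 0) * v 0 0 +
      (a 2 - a 1) * (v 0 0 * v 2 1 - v 0 1 * v 2 0) * v 1 0 = 0 := by
    linear_combination (-(v 0 0 * v 1 1 - v 0 1 * v 1 0)) * x2 +
      (v 2 0 * v 1 1 - v 2 1 * v 1 0) * x0 + (v 0 0 * v 2 1 - v 0 1 * v 2 0) * x1
  have s1 : (a 2 - a 0) * (v 2 0 * v 1 1 - v 2 1 * v 1 0) * v 0 1 +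
      (a 2 - a 1) * (v 0 0 * v 2 1 - v 0 1 * v 2 0) * v 1 1 = 0 := by
    linear_combination (-(v 0 0 * v 1 1 - v 0 1 * v 1 0)) * y2 +
      (v 2 0 * v 1 1 - v 2 1 * v 1 0) * y0 + (v 0 0 * v 2 1 - v 0 1 * v 2 0) * y1
  have t0 : (a 2 - a 0) * (v 2 0 * v 1 1 - v 2 1 * v 1 0) * (v 0 0 * v 1 1 - v 0 1 * v 1 0) = 0 := by
    linear_combination v 1 1 * s0 - v 1 0 * s1
  have t1 : (a 2 - a 1) * (v 0 0 * v 2 1 - v 0 1 * v 2 0) * (v 0 0 * v 1 1 - v 0 1 * v 1 0) = 0 := by
    linear_combination v 0 0 * s1 - v 0 1 * s0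
  have d21 : v 2 0 * v 1 1 - v 2 1 * v 1 0 ≠ 0 := fun h => d12 (by linear_combination -h)
  have e0 : a 0 = a 2 := by
    rcases mul_eq_zero.mp t0 with h | h
    · rcases mul_eq_zero.mp h with h | h
      · exact (sub_eq_zero.mp h).symm
      · exact absurd h d21
    · exact absurd h d01
  have e1 : a 1 = a 2 := by
    rcases mul_eq_zero.mp t1 with h | h
    · rcases mul_eq_zero.mp h with h | h
      · exact (sub_eq_zero.mp h).symm
      · exact absurd h d02
    · exact absurd h d01
  rw [e0] at x0 y0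
  rw [e1] at x1 y1
  refine hg (a 2) (Matrix.ext fun i j => ?_)
  have u00 : (g 0 0 - a 2) * (v 0 0 * v 1 1 - v 0 1 * v 1 0) = 0 := by
    linear_combination v 1 1 * x0 - v 0 1 * x1
  have u01 : g 0 1 * (v 0 0 * v 1 1 - v 0 1 * v 1 0) = 0 := by
    linear_combination v 0 0 * x1 - v 1 0 * x0
  have u10 : g 1 0 * (v 0 0 * v 1 1 - v 0 1 * v 1 0) = 0 := by
    linear_combination v 1 1 * y0 - v 0 1 * y1
  have u11 : (g 1 1 - a 2) * (v 0 0 * v 1 1 - v 0 1 * v 1 0) = 0 := by
    linear_combination v 0 0 * y1 - v 1 0 * y0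
  have c00 := sub_eq_zero.mp ((mul_eq_zero.mp u00).resolve_right d01)
  have c11 := sub_eq_zero.mp ((mul_eq_zero.mp u11).resolve_right d01)
  have c01 := (mul_eq_zero.mp u01).resolve_right d01
  have c10 := (mul_eq_zero.mp u10).resolve_right d01
  fin_cases i <;> fin_cases j <;> simp [c00, c11, c01, c10]

variable {p : ℕ} [Fact p.Prime]

/-- The scalar elements. -/
def scal (H : Subgroup (GL (Fin 2) F)) : Subgroup H where
  carrier := {h | ∃ c : F, ((h : GL (Fin 2) F) : Matrix (Fin 2) (Fin 2) F) = c • 1}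
  one_mem' := ⟨1, by simp⟩
  mul_mem' := by
    rintro a b ⟨c, hc⟩ ⟨d, hd⟩
    exact ⟨c * d, by simp [hc, hd, smul_smul, mul_comm]⟩
  inv_mem' := by
    rintro a ⟨c, hc⟩
    have h1 : (((a : GL (Fin 2) F)⁻¹ : GL (Fin 2) F) : Matrix (Fin 2) (Fin 2) F) *
        ((a : GL (Fin 2) F) : Matrix (Fin 2) (Fin 2) F) = 1 := Units.inv_mul _
    rw [hc, mul_smul_comm, mul_one] at h1
    have hc0 : c ≠ 0 := by
      rintro rfl
      rw [zero_smul] at h1
      exact zero_ne_one h1
    refine ⟨c⁻¹, ?_⟩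
    rw [← h1, smul_smul, inv_mul_cancel₀ hc0, one_smul]
    rfl

instance scal_normal (H : Subgroup (GL (Fin 2) F)) : (scal H).Normal :=
  ⟨fun a ⟨c, hc⟩ h => ⟨c, by simp [hc]⟩⟩

theorem disc_ne_zero (hp : p ≠ 2) (H : Subgroup (GL (Fin 2) (ZMod p))) (hH : ¬ p ∣ Nat.card H)
    (g : H) (hg : g ∉ scal H) :
    ((g : GL (Fin 2) (ZMod p)) : Matrix (Fin 2) (Fin 2) (ZMod p)).trace ^ 2 -
      4 * ((g : GL (Fin 2) (ZMod p)) : Matrix (Fin 2) (Fin 2) (ZMod p)).det ≠ 0 := by
  intro h0
  have hprime : p.Prime := Fact.out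
  have h2 : (2 : ZMod p) ≠ 0 := by
    intro h
    have h' : ((2 : ℕ) : ZMod p) = 0 := by exact_mod_cast h
    rw [ZMod.natCast_eq_zero_iff] at h'
    exact hp ((Nat.prime_dvd_prime_iff_eq hprime Nat.prime_two).mp h')
  set M := ((g : GL (Fin 2) (ZMod p)) : Matrix (Fin 2) (Fin 2) (ZMod p)) with hM
  set τ : ZMod p := M.trace / 2 with hτ
  have hτ1 : M.trace = 2 * τ := by rw [hτ]; field_simp
  have hτ2 : M.det = τ ^ 2 := by
    rw [hτ1] at h0
    have : (4 : ZMod p) * (τ ^ 2 - M.det) = 0 := by linear_combination h0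
    rcases mul_eq_zero.mp this with h | h
    · exact absurd (show (2 : ZMod p) * 2 = 0 by linear_combination h) (mul_ne_zero h2 h2)
    · exact (sub_eq_zero.mp h).symm
  have hN : (M - τ • 1) ^ 2 = 0 := by
    have hs : M * M = (2 * τ) • M - (τ ^ 2) • 1 := by rw [sq_eq M, hτ1, hτ2]
    rw [sq, sub_mul, mul_sub, mul_sub, smul_mul_assoc, mul_smul_comm, one_mul, mul_one, hs,
      smul_mul_assoc, one_mul, smul_smul, ← sq, two_mul, add_smul]
    abel
  have hMp : M ^ p = (τ ^ p) • 1 := by
    have hd : M = τ • 1 + (M - τ • 1) := by abel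
    have hcom : Commute (τ • (1 : Matrix (Fin 2) (Fin 2) (ZMod p))) (M - τ • 1) :=
      (Commute.one_left _).smul_left τ
    rw [hd, add_pow_char_of_commute _ hcom]
    rw [smul_pow, one_pow, pow_eq_zero_of_le hprime.two_le hN, add_zero]
  have hgp : g ^ p ∈ scal H := ⟨τ ^ p, by simpa [← hM] using hMp⟩
  have hco : (orderOf g).Coprime p :=
    ((hprime.coprime_iff_not_dvd).mpr fun h => hH (h.trans (orderOf_dvd_natCard g))).symm
  obtain ⟨k, hk⟩ := exists_pow_eq_self_of_coprime hco.symm
  exact hg (hk ▸ pow_mem hgp k)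

/-- The image modulo scalars of the centraliser. -/
def torus (H : Subgroup (GL (Fin 2) F)) (g : H) : Subgroup (H ⧸ scal H) :=
  (Subgroup.centralizer ({g} : Set H)).map (QuotientGroup.mk' (scal H))

theorem scal_comm (H : Subgroup (GL (Fin 2) F)) {s : H} (hs : s ∈ scal H) (g : H) :
    s * g = g * s := by
  obtain ⟨c, hc⟩ := hs
  apply Subtype.ext
  apply Units.ext
  simp [hc]

theorem centralizer_eq (H : Subgroup (GL (Fin 2) F)) {g h : H} (hg : g ∉ scal H) (hh : h ∉ scal H)
    (hc : h * g = g * h) : Subgroup.centralizer ({g} : Set H) = Subgroup.centralizer ({h} : Set H) := by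
  have key : ∀ a b : H, a ∉ scal H → b * a = a * b → ∀ x : H,
      x ∈ Subgroup.centralizer ({a} : Set H) → x ∈ Subgroup.centralizer ({b} : Set H) := by
    intro a b ha hab x hx
    rw [Subgroup.mem_centralizer_singleton_iff] at hx ⊢
    have hab' : ((b : GL (Fin 2) F) : Matrix (Fin 2) (Fin 2) F) * (a : GL (Fin 2) F) =
        ((a : GL (Fin 2) F) : Matrix (Fin 2) (Fin 2) F) * (b : GL (Fin 2) F) := by
      simpa using congrArg (fun z : H => ((z : GL (Fin 2) F) : Matrix (Fin 2) (Fin 2) F)) hab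
    obtain ⟨u, v, huv⟩ := commute_eq_add_smul (fun c hc' => ha ⟨c, hc'⟩) hab'
    have hxa : ((x : GL (Fin 2) F) : Matrix (Fin 2) (Fin 2) F) * (a : GL (Fin 2) F) =
        ((a : GL (Fin 2) F) : Matrix (Fin 2) (Fin 2) F) * (x : GL (Fin 2) F) := by
      simpa using congrArg (fun z : H => ((z : GL (Fin 2) F) : Matrix (Fin 2) (Fin 2) F)) hx
    apply Subtype.ext
    apply Units.ext
    simp [huv, mul_add, add_mul, hxa]
  exact le_antisymm (key g h hg hc) (key h g hh hc.symm)

theorem mem_torus (H : Subgroup (GL (Fin 2) F)) (g h : H) :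
    (QuotientGroup.mk' (scal H) h) ∈ torus H g ↔ h * g = g * h := by
  constructor
  · rintro ⟨y, hy, hyh⟩
    obtain ⟨s, hs, rfl⟩ := (QuotientGroup.mk'_eq_mk' _).mp hyh
    have h1 : y * g = g * y := Subgroup.mem_centralizer_singleton_iff.mp hy
    rw [mul_assoc, scal_comm H hs g, ← mul_assoc, h1, mul_assoc]
  · exact fun h1 => ⟨h, Subgroup.mem_centralizer_singleton_iff.mpr h1, rfl⟩

theorem torus_normalizer_card (hp : p ≠ 2) (H : Subgroup (GL (Fin 2) (ZMod p)))
    (hH : ¬ p ∣ Nat.card H) (g : H) (hg : g ∉ scal H) :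
    Nat.card (Subgroup.normalizer (torus H g : Set (H ⧸ scal H))) = Nat.card (torus H g) ∨
      Nat.card (Subgroup.normalizer (torus H g : Set (H ⧸ scal H))) = 2 * Nat.card (torus H g) := by
  classical
  set T := torus H g with hT
  set N := Subgroup.normalizer (T : Set (H ⧸ scal H)) with hN
  have hTN : T ≤ N := Subgroup.le_normalizer
  let M : H → Matrix (Fin 2) (Fin 2) (ZMod p) := fun h => ((h : GL (Fin 2) (ZMod p)) : Matrix _ _ _)
  -- a normalising element sends `g` to `g` or to `tr g - g`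
  have key : ∀ n : H, QuotientGroup.mk' (scal H) n ∈ N →
      M (n * g * n⁻¹) = M g ∨ M (n * g * n⁻¹) = (M g).trace • 1 - M g := by
    intro n hn
    have h1 : QuotientGroup.mk' (scal H) (n * g * n⁻¹) ∈ T := by
      simp only [map_mul, map_inv]
      exact (Subgroup.mem_normalizer_iff.mp hn _).mp ((mem_torus H g g).mpr rfl)
    have h2 : M (n * g * n⁻¹) * M g = M g * M (n * g * n⁻¹) := by
      simpa [M] using congrArg M ((mem_torus H g _).mp h1)
    obtain ⟨a, b, hab⟩ := commute_eq_add_smul (fun c hc => hg ⟨c, hc⟩) h2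
    have htr : (M (n * g * n⁻¹)).trace = (M g).trace := by
      simp only [M, Subgroup.coe_mul, Subgroup.coe_inv, Units.val_mul]
      exact Matrix.trace_units_conj _ _
    have hdet : (M (n * g * n⁻¹)).det = (M g).det := by
      simp only [M, Subgroup.coe_mul, Subgroup.coe_inv, Units.val_mul]
      exact Matrix.det_units_conj _ _
    have hdisc := disc_ne_zero hp H hH g hg
    rw [hab] at htr hdet ⊢
    have htr' : 2 * a + b * (M g).trace = (M g).trace := by
      simp [M, Matrix.trace_fin_two] at htr ⊢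
      linear_combination htr
    have hdet' : a ^ 2 + a * b * (M g).trace + b ^ 2 * (M g).det = (M g).det := by
      simp [M, Matrix.trace_fin_two, Matrix.det_fin_two] at hdet ⊢
      linear_combination hdet
    have hz : (1 - b) * (1 + b) * ((M g).trace ^ 2 - 4 * (M g).det) = 0 := by
      linear_combination 4 * hdet' - (2 * a + b * (M g).trace + (M g).trace) * htr'
    rcases mul_eq_zero.mp hz with h | h
    swap
    · exact absurd h hdisc
    have h2' : (2 : ZMod p) ≠ 0 := by
      intro h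
      have h' : ((2 : ℕ) : ZMod p) = 0 := by exact_mod_cast h
      rw [ZMod.natCast_eq_zero_iff] at h'
      exact hp ((Nat.prime_dvd_prime_iff_eq Fact.out Nat.prime_two).mp h')
    rcases mul_eq_zero.mp h with h | h
    · left
      have hb : b = 1 := (sub_eq_zero.mp h).symm
      subst hb
      have ha : a = 0 := (mul_eq_zero.mp (show (2 : ZMod p) * a = 0 by linear_combination htr')).resolve_left h2'
      simp [M, ha]
    · right
      have hb : b = -1 := eq_neg_of_add_eq_zero_right h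
      subst hb
      have ha : a = (M g).trace :=
        mul_left_cancel₀ h2' (by linear_combination htr')
      rw [ha, neg_one_smul, sub_eq_add_neg]
  -- two cosets at most
  have hidx : T.relIndex N ≤ 2 := by
    by_contra hcon
    letI := Fintype.ofFinite (N ⧸ T.subgroupOf N)
    rw [not_le, Subgroup.relIndex, Subgroup.index, Nat.card_eq_fintype_card] at hcon
    obtain ⟨x, y, z, hxy, hxz, hyz⟩ := Fintype.two_lt_card_iff.mp hcon
    have lift : ∀ q : N ⧸ T.subgroupOf N, ∃ n : H, ∃ hn : QuotientGroup.mk' (scal H) n ∈ N,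
        QuotientGroup.mk (⟨_, hn⟩ : N) = q := by
      intro q
      induction q using QuotientGroup.induction_on with
      | H m =>
        obtain ⟨n, hn⟩ := QuotientGroup.mk'_surjective (scal H) (m : H ⧸ scal H)
        exact ⟨n, hn ▸ m.2, by congr 1; exact Subtype.ext hn⟩
    obtain ⟨a, ha, rfl⟩ := lift x
    obtain ⟨b, hb, rfl⟩ := lift y
    obtain ⟨c, hc, rfl⟩ := lift z
    have coll : ∀ (u v : H) (hu : QuotientGroup.mk' (scal H) u ∈ N)
        (hv : QuotientGroup.mk' (scal H) v ∈ N), M (u * g * u⁻¹) = M (v * g * v⁻¹) →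
        (QuotientGroup.mk (⟨_, hu⟩ : N) : N ⧸ T.subgroupOf N) = QuotientGroup.mk ⟨_, hv⟩ := by
      intro u v hu hv h
      have h' : u * g * u⁻¹ = v * g * v⁻¹ := Subtype.ext (Units.ext h)
      rw [QuotientGroup.eq, Subgroup.mem_subgroupOf]
      show (QuotientGroup.mk' (scal H) u)⁻¹ * QuotientGroup.mk' (scal H) v ∈ T
      rw [← map_inv, ← map_mul, hT, mem_torus]
      calc u⁻¹ * v * g = u⁻¹ * (v * g * v⁻¹) * v := by group
        _ = u⁻¹ * (u * g * u⁻¹) * v := by rw [h']
        _ = g * (u⁻¹ * v) := by group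
    rcases key a ha with h1 | h1 <;> rcases key b hb with h2 | h2 <;> rcases key c hc with h3 | h3
    all_goals first
      | exact hxy (coll a b ha hb (h1.trans h2.symm))
      | exact hxz (coll a c ha hc (h1.trans h3.symm))
      | exact hyz (coll b c hb hc (h2.trans h3.symm))
  have hcard := Subgroup.relIndex_mul_relIndex ⊥ T N bot_le hTN
  rw [Subgroup.relIndex_bot_left, Subgroup.relIndex_bot_left] at hcard
  have hpos : 0 < Nat.card N := Nat.card_pos
  rcases show T.relIndex N = 0 ∨ T.relIndex N = 1 ∨ T.relIndex N = 2 by omega with h | h | h <;>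
    rw [h] at hcard
  · omega
  · exact Or.inl (by omega)
  · exact Or.inr (by omega)

/-- **Few lines.** In a group of order prime to `p` of invertible `2 × 2` matrices over `ZMod p`,
at most `12` lines are eigenlines of elements of order at least `4` modulo scalars, and at most `2`
if the orders are at least `6`. -/
theorem few_lines (hp : p ≠ 2) (H : Subgroup (GL (Fin 2) (ZMod p))) (hH : ¬ p ∣ Nat.card H)
    {ι : Type*} [Finite ι] (v : ι → Fin 2 → ZMod p)
    (hind : ∀ i j, i ≠ j → v i 0 * v j 1 - v i 1 * v j 0 ≠ 0) (h : ι → H) (a : ι → ZMod p)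
    (heig : ∀ i, ((h i : GL (Fin 2) (ZMod p)) : Matrix (Fin 2) (Fin 2) (ZMod p)) *ᵥ v i = a i • v i)
    (n : ℕ) (hord : ∀ i k, 0 < k → k < n → (h i) ^ k ∉ scal H) :
    (4 ≤ n → Nat.card ι ≤ 12) ∧ (6 ≤ n → Nat.card ι ≤ 2) := by
  classical
  by_cases hn : n < 4
  · exact ⟨fun h => absurd h (by omega), fun h => absurd h (by omega)⟩
  let S : Set (Subgroup (H ⧸ scal H)) := {C | ∃ g : H, g ∉ scal H ∧ C = torus H g}
  have hmk : ∀ x : H, QuotientGroup.mk' (scal H) x = 1 ↔ x ∈ scal H := fun x =>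
    QuotientGroup.eq_one_iff x
  have hinj : ∀ g g' : H, g ∉ scal H → g' ∉ scal H → g' * g = g * g' → torus H g = torus H g' :=
    fun g g' hg hg' hc => by rw [torus, torus, centralizer_eq H hg hg' hc]
  have stable : ∀ C ∈ S, ∀ q, conjS q C ∈ S := by
    rintro _ ⟨g, hg, rfl⟩ q
    obtain ⟨m, rfl⟩ := QuotientGroup.mk'_surjective (scal H) q
    refine ⟨m * g * m⁻¹, fun hs => hg ?_, ?_⟩
    · have := (scal_normal H).conj_mem _ hs m⁻¹
      simpa [mul_assoc] using this
    · ext x
      obtain ⟨y, rfl⟩ := QuotientGroup.mk'_surjective (scal H) x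
      rw [mem_conjS, ← map_inv, ← map_mul, ← map_mul, mem_torus, mem_torus]
      constructor
      · intro e
        calc y * (m * g * m⁻¹) = m * (m⁻¹ * y * m * g) * m⁻¹ := by group
          _ = m * (g * (m⁻¹ * y * m)) * m⁻¹ := by rw [e]
          _ = _ := by group
      · intro e
        calc m⁻¹ * y * m * g = m⁻¹ * (y * (m * g * m⁻¹)) * m := by group
          _ = m⁻¹ * ((m * g * m⁻¹) * y) * m := by rw [e]
          _ = _ := by group
  have disj : ∀ C ∈ S, ∀ D ∈ S, ∀ x, x ∈ C → x ∈ D → x ≠ 1 → C = D := by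
    rintro _ ⟨g, hg, rfl⟩ _ ⟨g', hg', rfl⟩ x hx hx' hx1
    obtain ⟨y, rfl⟩ := QuotientGroup.mk'_surjective (scal H) x
    have hy : y ∉ scal H := fun hy => hx1 ((hmk y).mpr hy)
    rw [hinj g y hg hy ((mem_torus H g y).mp hx), hinj g' y hg' hy ((mem_torus H g' y).mp hx')]
  have cover : ∀ x : H ⧸ scal H, x ≠ 1 → ∃ C ∈ S, x ∈ C := fun x hx => by
    obtain ⟨y, rfl⟩ := QuotientGroup.mk'_surjective (scal H) x
    exact ⟨_, ⟨y, fun hy => hx ((hmk y).mpr hy), rfl⟩, (mem_torus H y y).mpr rfl⟩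
  have hbot : ∀ C ∈ S, 2 ≤ Nat.card C := by
    rintro _ ⟨g, hg, rfl⟩
    exact (Subgroup.one_lt_card_iff_ne_bot _).mpr fun hb => hg ((hmk g).mp
      (Subgroup.mem_bot.mp (hb ▸ (mem_torus H g g).mpr rfl)))
  obtain ⟨hle6, hle1⟩ := large_members S stable disj cover hbot
    (by rintro _ ⟨g, hg, rfl⟩; exact torus_normalizer_card hp H hH g hg)
  -- the torus of a line
  have hns : ∀ i, h i ∉ scal H := fun i hi => hord i 1 one_pos (by omega) (by rwa [pow_one])
  have hcardT : ∀ i, n ≤ Nat.card (torus H (h i)) := by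
    intro i
    have hpos : 0 < orderOf (QuotientGroup.mk' (scal H) (h i)) := orderOf_pos _
    have h1 : n ≤ orderOf (QuotientGroup.mk' (scal H) (h i)) := by
      by_contra hlt
      refine hord i _ hpos (Nat.lt_of_not_le hlt) ((hmk _).mp ?_)
      rw [map_pow, pow_orderOf_eq_one]
    exact h1.trans (Nat.le_of_dvd Nat.card_pos
      (Subgroup.orderOf_dvd_natCard _ ((mem_torus H (h i) (h i)).mpr rfl)))
  let f : ι → {C ∈ S | 4 ≤ Nat.card C} := fun i =>
    ⟨torus H (h i), ⟨h i, hns i, rfl⟩, le_trans (by omega) (hcardT i)⟩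
  have hfib : ∀ i j k : ι, f i = f j → f i = f k → i = j ∨ i = k ∨ j = k := by
    intro i j k hij hik
    by_contra hne
    push Not at hne
    obtain ⟨n1, n2, n3⟩ := hne
    have hcomm : ∀ l, f i = f l → ∃ c : ZMod p,
        ((h i : GL (Fin 2) (ZMod p)) : Matrix (Fin 2) (Fin 2) (ZMod p)) *ᵥ v l = c • v l := by
      intro l hl
      have h1 : (QuotientGroup.mk' (scal H) (h i)) ∈ torus H (h l) := by
        have : torus H (h i) = torus H (h l) := congrArg Subtype.val hl
        rw [← this]; exact (mem_torus H (h i) (h i)).mpr rfl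
      have h2 := congrArg (fun z : H => ((z : GL (Fin 2) (ZMod p)) : Matrix (Fin 2) (Fin 2) (ZMod p)))
        ((mem_torus H (h l) (h i)).mp h1)
      simp only [Subgroup.coe_mul, Units.val_mul] at h2
      obtain ⟨x, y, hxy⟩ := commute_eq_add_smul (fun c hc => hns l ⟨c, hc⟩) h2
      exact ⟨x + y * a l, by rw [hxy, add_mulVec, smul_mulVec, smul_mulVec, one_mulVec, heig, smul_smul, add_smul]⟩
    obtain ⟨ci, hci⟩ := hcomm i rfl
    obtain ⟨cj, hcj⟩ := hcomm j hij
    obtain ⟨ck, hck⟩ := hcomm k hik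
    refine not_three_eigenvectors (fun c hc => hns i ⟨c, hc⟩) ![v i, v j, v k] ![ci, cj, ck]
      (fun r => by fin_cases r; exacts [hci, hcj, hck]) (fun r s hrs => ?_)
    fin_cases r <;> fin_cases s
    exacts [absurd rfl hrs, hind i j n1, hind i k n2, hind j i n1.symm, absurd rfl hrs, hind j k n3,
      hind k i n2.symm, hind k j n3.symm, absurd rfl hrs]
  haveI : Fintype ι := Fintype.ofFinite ι
  haveI : Fintype {C ∈ S | 4 ≤ Nat.card C} := Fintype.ofFinite _
  have hcount : Nat.card ι ≤ 2 * Nat.card {C ∈ S | 4 ≤ Nat.card C} := by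
    rw [Nat.card_eq_fintype_card, Nat.card_eq_fintype_card, ← Finset.card_univ, ← Finset.card_univ]
    refine Finset.card_le_mul_card_image_of_maps_to (fun i _ => Finset.mem_univ (f i)) 2 fun C _ => ?_
    by_contra hcon
    rw [not_le, Finset.two_lt_card] at hcon
    obtain ⟨i, hi, j, hj, k, hk, n1, n2, n3⟩ := hcon
    simp only [Finset.mem_filter] at hi hj hk
    rcases hfib i j k (hi.2.trans hj.2.symm) (hi.2.trans hk.2.symm) with e | e | e
    exacts [n1 e, n2 e, n3 e]
  rw [Nat.card_coe_set_eq] at hcount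
  refine ⟨fun _ => by omega, fun h6 => ?_⟩
  rcases isEmpty_or_nonempty ι with hι | ⟨⟨i⟩⟩
  · rw [Nat.card_of_isEmpty]; omega
  · have := hle1 ⟨_, ⟨h i, hns i, rfl⟩, le_trans h6 (hcardT i)⟩
    omega

end Linear

end CfsgLib.LocalEvenBasic.CoprimeLinearTwo
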