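import Mathlib
import Cfsg.Prelude.Def_Transfer
import Cfsg.Agent.FusionEssential.Aut
import Cfsg.Agent.LocalEvenBasic.CoprimeLinearTwo

/-!
# A Sylow subgroup extraspecial of order `p ^ 3` and exponent `p`, whose maximal subgroups have
`SL(2, p)` in their automisers

For `p > 13` (and `p = 11`) at most two maximal subgroups have this property, for `p = 13` at most twelve.
-/

set_option autoImplicit false
set_option linter.style.haveILetI false

namespace CfsgLib.LocalEvenBasic.CubeLines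

open scoped commutatorElement

variable {G : Type*} [Group G] {p : ℕ} [Fact p.Prime]

theorem pow_zmod_val {a : G} (ha : a ^ p = 1) (i : ℕ) : a ^ i = a ^ (i : ZMod p).val := by
  rw [ZMod.val_natCast]
  exact pow_eq_pow_mod i ha

theorem pow_val_add {a : G} (ha : a ^ p = 1) (i j : ZMod p) :
    a ^ (i + j).val = a ^ i.val * a ^ j.val := by
  rw [← pow_add, ZMod.val_add]
  exact (pow_eq_pow_mod _ ha).symm

theorem pow_val_mul {a : G} (ha : a ^ p = 1) (i j : ZMod p) :
    a ^ (i * j).val = (a ^ i.val) ^ j.val := by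
  rw [← pow_mul, ZMod.val_mul]
  exact (pow_eq_pow_mod _ ha).symm

/-- `z ^ i * x ^ j`. -/
def E (z x : G) (v : ZMod p × ZMod p) : G := z ^ v.1.val * x ^ v.2.val

section Plane

variable {z x : G} (hz : z ^ p = 1) (hx : x ^ p = 1) (hc : Commute z x)

include hz hx hc

theorem E_add (v w : ZMod p × ZMod p) : E z x (v + w) = E z x v * E z x w := by
  simp only [E, Prod.fst_add, Prod.snd_add, pow_val_add hz, pow_val_add hx]
  exact (hc.pow_pow _ _).mul_mul_mul_comm _ _

theorem E_nsmul (v : ZMod p × ZMod p) (k : ℕ) : E z x (k • v) = E z x v ^ k := by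
  induction k with
  | zero => simp [E]
  | succ k ih => rw [succ_nsmul, E_add hz hx hc, ih, pow_succ]

theorem E_left : E z x ((1, 0) : ZMod p × ZMod p) = z := by simp [E, ZMod.val_one]

theorem E_right : E z x ((0, 1) : ZMod p × ZMod p) = x := by simp [E, ZMod.val_one]

/-- Conjugation by `g` is the linear map with the given columns. -/
theorem act_of (g : G) (a b : ZMod p × ZMod p) (hgz : g * z * g⁻¹ = E z x a)
    (hgx : g * x * g⁻¹ = E z x b) (v : ZMod p × ZMod p) :
    g * E z x v * g⁻¹ = E z x (v.1 * a.1 + v.2 * b.1, v.1 * a.2 + v.2 * b.2) := by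
  have h1 : g * E z x v * g⁻¹ = (g * z * g⁻¹) ^ v.1.val * (g * x * g⁻¹) ^ v.2.val := by
    rw [conj_pow, conj_pow, E]; group
  rw [h1, hgz, hgx, ← E_nsmul hz hx hc, ← E_nsmul hz hx hc, ← E_add hz hx hc]
  congr 1
  ext <;> simp [nsmul_eq_mul]

theorem E_injective (hz1 : z ≠ 1) (hxz : x ∉ Subgroup.zpowers z) :
    Function.Injective (E (p := p) z x) := by
  suffices ∀ u, E z x u = 1 → u = (0 : ZMod p × ZMod p) by
    intro v w h
    refine sub_eq_zero.mp (this _ ?_)
    have h' := E_add hz hx hc (v - w) w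
    rw [sub_add_cancel, h] at h'
    exact mul_eq_right.mp h'.symm
  intro u hu
  have h2 : u.2 = 0 := by
    by_contra hne
    apply hxz
    have hxj : x ^ u.2.val = (z ^ u.1.val)⁻¹ := eq_inv_of_mul_eq_one_right hu
    have : x = (x ^ u.2.val) ^ (u.2⁻¹).val := by
      rw [← pow_val_mul hx, mul_inv_cancel₀ hne, ZMod.val_one, pow_one]
    rw [this, hxj]
    exact pow_mem (inv_mem (pow_mem (Subgroup.mem_zpowers z) _)) _
  have h1 : u.1 = 0 := by
    by_contra hne
    apply hz1
    have hzi : z ^ u.1.val = 1 := by simpa [E, h2] using hu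
    calc z = (z ^ u.1.val) ^ (u.1⁻¹).val := by
          rw [← pow_val_mul hz, mul_inv_cancel₀ hne, ZMod.val_one, pow_one]
      _ = 1 := by rw [hzi, one_pow]
  exact Prod.ext h1 h2

end Plane

/-- **Torus element.** If `l` acts on `⟨z, x⟩` as a nontrivial transvection fixing `x` and `y ∈ P`
as one fixing `z`, some element of `N(P)` acts diagonally with parameters `t`, `t⁻¹`. -/
theorem exists_torus_element [Finite G] (P : Sylow p G) {z x y l : G} (hz : z ^ p = 1)
    (hx : x ^ p = 1) (hc : Commute z x) (hPz : ∀ q ∈ P, q * z * q⁻¹ = z)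
    (hPx : ∀ q ∈ P, ∃ s : ZMod p, q * x * q⁻¹ = E z x (s, 1))
    (hy : y * x * y⁻¹ = E z x ((1 : ZMod p), (1 : ZMod p))) (hyz : y * z * y⁻¹ = z)
    (c : ZMod p) (hc0 : c ≠ 0) (hlx : l * x * l⁻¹ = x) (hlz : l * z * l⁻¹ = E z x (1, c))
    (t : ZMod p) (ht : t ≠ 0) :
    ∃ n ∈ Subgroup.normalizer ((P : Subgroup G) : Set G),
      n * z * n⁻¹ = z ^ t.val ∧ ∃ s : ZMod p, n * x * n⁻¹ = E z x (s, t⁻¹) := by
  have eL : E z x ((1, 0) : ZMod p × ZMod p) = z := E_left hz hx hc
  have eR : E z x ((0, 1) : ZMod p × ZMod p) = x := E_right hz hx hc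
  -- powers of `y` and `l`
  have hU : ∀ (k : ℕ) (v : ZMod p × ZMod p),
      y ^ k * E z x v * (y ^ k)⁻¹ = E z x (v.1 + (k : ZMod p) * v.2, v.2) := by
    intro k
    induction k with
    | zero => intro v; simp
    | succ k ih =>
      intro v
      have h1 := act_of hz hx hc y (1, 0) (1, 1) (by rw [eL, hyz]) hy v
      calc y ^ (k + 1) * E z x v * (y ^ (k + 1))⁻¹
          = y ^ k * (y * E z x v * y⁻¹) * (y ^ k)⁻¹ := by rw [pow_succ]; group
        _ = _ := by rw [h1, ih]; congr 1; ext <;> push_cast <;> ring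
  have hL : ∀ (k : ℕ) (v : ZMod p × ZMod p),
      l ^ k * E z x v * (l ^ k)⁻¹ = E z x (v.1, v.2 + (k : ZMod p) * c * v.1) := by
    intro k
    induction k with
    | zero => intro v; simp
    | succ k ih =>
      intro v
      have h1 := act_of hz hx hc l (1, c) (0, 1) hlz (by rw [eR, hlx]) v
      calc l ^ (k + 1) * E z x v * (l ^ (k + 1))⁻¹
          = l ^ k * (l * E z x v * l⁻¹) * (l ^ k)⁻¹ := by rw [pow_succ]; group
        _ = _ := by rw [h1, ih]; congr 1; ext <;> push_cast <;> ring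
  let w : ZMod p → G := fun a => y ^ a.val * l ^ (-(a⁻¹ * c⁻¹)).val * y ^ a.val
  have hw : ∀ a : ZMod p, a ≠ 0 → ∀ v, w a * E z x v * (w a)⁻¹ = E z x (a * v.2, -(a⁻¹ * v.1)) := by
    intro a ha v
    calc w a * E z x v * (w a)⁻¹ = y ^ a.val * (l ^ (-(a⁻¹ * c⁻¹)).val *
          (y ^ a.val * E z x v * (y ^ a.val)⁻¹) * (l ^ (-(a⁻¹ * c⁻¹)).val)⁻¹) * (y ^ a.val)⁻¹ := by
          simp only [w]; group
      _ = _ := by
          rw [hU, hL, hU]
          congr 1
          simp only [ZMod.natCast_zmod_val]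
          ext <;> field_simp <;> ring
  set g := w t * w (-1) with hg
  have hgv : ∀ v, g * E z x v * g⁻¹ = E z x (t * v.1, t⁻¹ * v.2) := by
    intro v
    calc g * E z x v * g⁻¹ = w t * (w (-1) * E z x v * (w (-1))⁻¹) * (w t)⁻¹ := by rw [hg]; group
      _ = _ := by
          rw [hw _ (neg_ne_zero.mpr one_ne_zero), hw _ ht]
          congr 1
          ext <;> field_simp
  have hgi : ∀ v, g⁻¹ * E z x v * g = E z x (t⁻¹ * v.1, t * v.2) := by
    intro v
    have := hgv (t⁻¹ * v.1, t * v.2)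
    rw [show (t * (t⁻¹ * v.1), t⁻¹ * (t * v.2)) = v by ext <;> field_simp] at this
    rw [← this]; group
  -- the subgroup acting as `P`
  let K : Subgroup G :=
    { carrier := {q | ∃ s : ZMod p, ∀ v : ZMod p × ZMod p, q * E z x v * q⁻¹ = E z x (v.1 + s * v.2, v.2)}
      one_mem' := ⟨0, fun v => by simp⟩
      mul_mem' := by
        rintro a b ⟨s, hs⟩ ⟨s', hs'⟩
        refine ⟨s + s', fun v => ?_⟩
        calc a * b * E z x v * (a * b)⁻¹ = a * (b * E z x v * b⁻¹) * a⁻¹ := by group
          _ = _ := by rw [hs', hs]; congr 1; ext <;> ring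
      inv_mem' := by
        rintro a ⟨s, hs⟩
        refine ⟨-s, fun v => ?_⟩
        have := hs (v.1 + -s * v.2, v.2)
        rw [show (v.1 + -s * v.2 + s * v.2, v.2) = v by ext <;> ring] at this
        conv_lhs => rw [← this]
        group }
  have hPK : (P : Subgroup G) ≤ K := by
    intro q hq
    obtain ⟨s, hs⟩ := hPx q hq
    refine ⟨s, fun v => ?_⟩
    rw [act_of hz hx hc q (1, 0) (s, 1) (by rw [eL, hPz q hq]) hs v]
    congr 1
    ext <;> ring
  have hgPK : ((g • P : Sylow p G) : Subgroup G) ≤ K := by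
    intro q hq
    rw [Sylow.smul_def] at hq
    obtain ⟨r, hr, rfl⟩ := Subgroup.mem_map.mp hq
    obtain ⟨s, hs⟩ := hPK hr
    refine ⟨s * t * t, fun v => ?_⟩
    show g * r * g⁻¹ * E z x v * (g * r * g⁻¹)⁻¹ = _
    calc g * r * g⁻¹ * E z x v * (g * r * g⁻¹)⁻¹
        = g * (r * (g⁻¹ * E z x v * g) * r⁻¹) * g⁻¹ := by group
      _ = _ := by rw [hgi, hs, hgv]; congr 1; ext <;> field_simp
  obtain ⟨k, hk⟩ := MulAction.exists_smul_eq K (Sylow.subtype (g • P) hgPK) (Sylow.subtype P hPK)
  rw [Sylow.smul_subtype] at hk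
  replace hk := Sylow.subtype_injective hk
  · obtain ⟨s, hs⟩ := k.2
    refine ⟨(k : G) * g, Sylow.smul_eq_iff_mem_normalizer.mp ?_, ?_, ?_⟩
    · rw [mul_smul]
      exact hk
    · have h1 := hgv (1, 0)
      rw [eL, mul_one, mul_zero] at h1
      calc (k : G) * g * z * ((k : G) * g)⁻¹ = (k : G) * (g * z * g⁻¹) * (k : G)⁻¹ := by group
        _ = z ^ t.val := by rw [h1, hs]; simp [E]
    · have h1 := hgv (0, 1)
      rw [eR, mul_one, mul_zero] at h1
      refine ⟨s * t⁻¹, ?_⟩
      calc (k : G) * g * x * ((k : G) * g)⁻¹ = (k : G) * (g * x * g⁻¹) * (k : G)⁻¹ := by group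
        _ = _ := by rw [h1, hs]; simp

variable [Finite G]

/-- The hypotheses on the Sylow subgroup. -/
structure Cube (P : Sylow p G) : Prop where
  odd : p ≠ 2
  ext : Cfsg.IsExtraspecial p ↥(P : Subgroup G)
  card : Nat.card ↥(P : Subgroup G) = p ^ 3
  exp : ∀ q : ↥(P : Subgroup G), q ^ p = 1

variable {P : Sylow p G}

theorem Cube.comm_mem (h : Cube P) (a b : ↥(P : Subgroup G)) :
    ⁅a, b⁆ ∈ Subgroup.center ↥(P : Subgroup G) := by
  rw [← h.ext.1.2.2]
  exact Subgroup.commutator_mem_commutator (Subgroup.mem_top a) (Subgroup.mem_top b)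

theorem Cube.comm_mul (h : Cube P) (a b c : ↥(P : Subgroup G)) :
    ⁅a * b, c⁆ = ⁅a, c⁆ * ⁅b, c⁆ := by
  have h1 : ⁅a * b, c⁆ = a * ⁅b, c⁆ * a⁻¹ * ⁅a, c⁆ := by simp only [commutatorElement_def]; group
  rw [h1, Subgroup.mem_center_iff.mp (h.comm_mem b c) a, mul_inv_cancel_right,
    ← Subgroup.mem_center_iff.mp (h.comm_mem b c) ⁅a, c⁆]

theorem Cube.comm_pow (h : Cube P) (a c : ↥(P : Subgroup G)) (k : ℕ) :
    ⁅a ^ k, c⁆ = ⁅a, c⁆ ^ k := by
  induction k with
  | zero => simp
  | succ k ih => rw [pow_succ, h.comm_mul, ih, pow_succ]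

theorem Cube.pow_eq_one (h : Cube P) {q : G} (hq : q ∈ P) : q ^ p = 1 := by
  simpa using congrArg Subtype.val (h.exp ⟨q, hq⟩)

theorem Cube.center_zpowers (h : Cube P) {z : ↥(P : Subgroup G)}
    (hz : z ∈ Subgroup.center ↥(P : Subgroup G)) (hz1 : z ≠ 1) :
    Subgroup.zpowers z = Subgroup.center ↥(P : Subgroup G) := by
  refine Subgroup.eq_of_le_of_card_ge (Subgroup.zpowers_le.mpr hz) ?_
  rw [Nat.card_zpowers, orderOf_eq_prime (h.exp z) hz1, h.ext.2]

theorem Cube.exists_center (h : Cube P) :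
    ∃ z ∈ Subgroup.center ↥(P : Subgroup G), z ≠ 1 := by
  have hbot : Subgroup.center ↥(P : Subgroup G) ≠ ⊥ := by
    intro hb
    have := h.ext.2
    rw [hb, Subgroup.card_bot] at this
    exact absurd this.symm (Fact.out : p.Prime).ne_one
  obtain ⟨⟨z, hz⟩, hz1⟩ := Subgroup.ne_bot_iff_exists_ne_one.mp hbot
  exact ⟨z, hz, fun e => hz1 (Subtype.ext e)⟩

theorem Cube.exists_comm_eq (h : Cube P) {x : ↥(P : Subgroup G)}
    (hx : x ∉ Subgroup.center ↥(P : Subgroup G)) {z : ↥(P : Subgroup G)}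
    (hz : z ∈ Subgroup.center ↥(P : Subgroup G)) : ∃ y : ↥(P : Subgroup G), ⁅y, x⁆ = z := by
  obtain ⟨q, hq⟩ : ∃ q, ⁅q, x⁆ ≠ 1 := by
    by_contra hcon
    push Not at hcon
    exact hx (Subgroup.mem_center_iff.mpr fun q =>
      commutatorElement_eq_one_iff_mul_comm.mp (hcon q))
  rw [← h.center_zpowers (h.comm_mem q x) hq] at hz
  obtain ⟨k, hk⟩ := Submonoid.mem_powers_iff _ _ |>.mp
    (mem_powers_iff_mem_zpowers.mpr hz)
  exact ⟨q ^ k, by rw [h.comm_pow, hk]⟩

/-- In terms of `E`: conjugating a noncentral element inside `P`. -/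
theorem Cube.conj_eq (h : Cube P) {z : ↥(P : Subgroup G)}
    (hz : z ∈ Subgroup.center ↥(P : Subgroup G)) (hz1 : z ≠ 1) (x : ↥(P : Subgroup G))
    {q : G} (hq : q ∈ P) :
    ∃ s : ZMod p, q * (x : G) * q⁻¹ = E (z : G) (x : G) (s, 1) := by
  have h1 := h.comm_mem ⟨q, hq⟩ x
  rw [← h.center_zpowers hz hz1] at h1
  obtain ⟨k, hk⟩ := Submonoid.mem_powers_iff _ _ |>.mp (mem_powers_iff_mem_zpowers.mpr h1)
  refine ⟨(k : ZMod p), ?_⟩
  have h2 : (z : G) ^ k * (x : G) = q * (x : G) * q⁻¹ := by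
    have := congrArg (fun a : ↥(P : Subgroup G) => (a : G) * (x : G)) hk
    simp only [commutatorElement_def, Subgroup.coe_mul, Subgroup.coe_inv, SubgroupClass.coe_pow,
      inv_mul_cancel_right] at this
    exact this
  rw [← h2, E, ZMod.val_one, pow_one, ← pow_zmod_val (h.pow_eq_one z.2)]

theorem Cube.noncentral (h : Cube P) {z x : ↥(P : Subgroup G)}
    (hz : z ∈ Subgroup.center ↥(P : Subgroup G))
    (hx : x ∉ Subgroup.center ↥(P : Subgroup G)) : (x : G) ∉ Subgroup.zpowers (z : G) := by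
  intro hmem
  obtain ⟨k, hk⟩ := Subgroup.mem_zpowers_iff.mp hmem
  apply hx
  have : x = z ^ k := Subtype.ext (by simp [hk])
  rw [this]
  exact zpow_mem hz k

theorem Cube.commute (_h : Cube P) {z : ↥(P : Subgroup G)}
    (hz : z ∈ Subgroup.center ↥(P : Subgroup G)) (x : ↥(P : Subgroup G)) :
    Commute (z : G) (x : G) :=
  (congrArg Subtype.val (Subgroup.mem_center_iff.mp hz x)).symm

/-- The maximal subgroup `⟨z, x⟩` has both transvections in its automiser. -/
def HasTransvection (z x : G) : Prop :=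
  ∃ (l : G) (c : ZMod p), c ≠ 0 ∧ l * x * l⁻¹ = x ∧ l * z * l⁻¹ = E z x (1, c)

/-- The action of `N(P)` on `P / Z(P)`. -/
noncomputable def quotientAut (P : Sylow p G) :
    Subgroup.normalizer ((P : Subgroup G) : Set G) →*
      MulAut (↥(P : Subgroup G) ⧸ Subgroup.center ↥(P : Subgroup G)) :=
  (MonoidHom.mk' (fun α : MulAut ↥(P : Subgroup G) =>
      QuotientGroup.congr _ _ α
        (Subgroup.characteristic_iff_map_eq.mp inferInstance α))
    (fun α β => by
      refine MulEquiv.ext fun q => ?_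
      induction q using QuotientGroup.induction_on with
      | H a => rfl)).comp
  (Subgroup.normalizerMonoidHom (P : Subgroup G))

theorem quotientAut_mk (P : Sylow p G)
    (n : Subgroup.normalizer ((P : Subgroup G) : Set G)) (q : ↥(P : Subgroup G)) :
    quotientAut P n (QuotientGroup.mk q) =
      QuotientGroup.mk (⟨(n : G) * (q : G) * (n : G)⁻¹,
        (Subgroup.mem_normalizer_iff.mp n.2 q).mp q.2⟩ : ↥(P : Subgroup G)) := rfl

theorem exists_units_order : ∃ t : (ZMod p)ˣ, orderOf t = p - 1 := by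
  obtain ⟨t, ht⟩ := IsCyclic.exists_generator (α := (ZMod p)ˣ)
  exact ⟨t, by
    rw [orderOf_eq_card_of_forall_mem_zpowers ht, Nat.card_eq_fintype_card, ZMod.card_units]⟩

/-- **The bound.** -/
theorem lines_bound (h : Cube P) {z : ↥(P : Subgroup G)}
    (hz : z ∈ Subgroup.center ↥(P : Subgroup G)) (hz1 : z ≠ 1) {ι : Type*} [Finite ι]
    (x : ι → ↥(P : Subgroup G)) (hx : ∀ i, x i ∉ Subgroup.center ↥(P : Subgroup G))
    (hind : ∀ i j, i ≠ j → ∀ k : ℕ, x i ^ k * (x j)⁻¹ ∉ Subgroup.center ↥(P : Subgroup G))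
    (htrans : ∀ i, HasTransvection (p := p) (z : G) (x i : G)) :
    ((17 ≤ p ∨ p = 11) → Nat.card ι ≤ 2) ∧ (p = 13 → Nat.card ι ≤ 12) := by
  classical
  -- coordinates on `P / Z`
  set C := Subgroup.center ↥(P : Subgroup G) with hC
  have hab : ∀ a b : ↥(P : Subgroup G) ⧸ C, a * b = b * a := by
    intro a b
    induction a using QuotientGroup.induction_on with
    | H a =>
      induction b using QuotientGroup.induction_on with
      | H b =>
        rw [← QuotientGroup.mk_mul, ← QuotientGroup.mk_mul, QuotientGroup.eq]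
        have : (a * b)⁻¹ * (b * a) = ⁅b⁻¹, a⁻¹⁆ := by simp only [commutatorElement_def]; group
        rw [this]
        exact h.comm_mem _ _
  have hexp : ∀ a : ↥(P : Subgroup G) ⧸ C, a ^ p = 1 := fun a => by
    induction a using QuotientGroup.induction_on with
    | H a => rw [← QuotientGroup.mk_pow, h.exp]; rfl
  have hcard2 : Nat.card (↥(P : Subgroup G) ⧸ C) = p ^ 2 := by
    have := Subgroup.card_eq_card_quotient_mul_card_subgroup C
    rw [h.card, h.ext.2] at this
    exact Nat.eq_of_mul_eq_mul_right (Fact.out : p.Prime).pos (this.symm.trans (by ring))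
  obtain ⟨f⟩ := CfsgLib.FusionEssential.exists_mulEquiv_fin_of_elementary hab hexp hcard2
  let ρ : Subgroup.normalizer ((P : Subgroup G) : Set G) →* GL (Fin 2) (ZMod p) :=
    ((CfsgLib.FusionEssential.autMatrix f).comp (quotientAut P)).toHomUnits
  have hρ : ∀ n q, ((ρ n : GL (Fin 2) (ZMod p)) : Matrix (Fin 2) (Fin 2) (ZMod p)).mulVec
      (f (QuotientGroup.mk q)).toAdd = (f (quotientAut P n (QuotientGroup.mk q))).toAdd := by
    intro n q
    show (CfsgLib.FusionEssential.autMatrix f (quotientAut P n)).mulVec _ = _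
    rw [CfsgLib.FusionEssential.autMatrix_mulVec, ofAdd_toAdd, MulEquiv.symm_apply_apply]
  have hH : ¬ p ∣ Nat.card ρ.range := by
    rw [← Subgroup.index_ker]
    intro hdvd
    have hle : (P : Subgroup G).subgroupOf (Subgroup.normalizer ((P : Subgroup G) : Set G)) ≤ ρ.ker := by
      intro n hn
      have h0 : quotientAut P n = 1 := by
        refine MulEquiv.ext fun q => ?_
        induction q using QuotientGroup.induction_on with
        | H q =>
          rw [quotientAut_mk, MulAut.one_apply, QuotientGroup.eq]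
          have h1 := h.comm_mem ⟨(n : G), Subgroup.mem_subgroupOf.mp hn⟩ q⁻¹
          convert h1 using 1
          apply Subtype.ext
          simp [commutatorElement_def, mul_assoc]
      rw [MonoidHom.mem_ker]
      apply Units.ext
      show CfsgLib.FusionEssential.autMatrix f (quotientAut P n) = _
      rw [h0, map_one, Units.val_one]
    exact Sylow.not_dvd_index' P Subgroup.FiniteIndex.index_ne_zero
      (hdvd.trans ((Subgroup.index_dvd_of_le hle).trans
        (Subgroup.relIndex_mul_index (Subgroup.le_normalizer (H := (P : Subgroup G))) ▸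
          Dvd.intro _ rfl)))
  obtain ⟨t, ht⟩ := exists_units_order (p := p)
  -- the torus elements
  have hex : ∀ i, ∃ n ∈ Subgroup.normalizer ((P : Subgroup G) : Set G),
      n * (z : G) * n⁻¹ = (z : G) ^ (t : ZMod p).val ∧
      ∃ s : ZMod p, n * (x i : G) * n⁻¹ = E (z : G) (x i : G) (s, (t : ZMod p)⁻¹) := by
    intro i
    obtain ⟨l, c, hc0, hlx, hlz⟩ := htrans i
    obtain ⟨y, hy⟩ := h.exists_comm_eq (hx i) hz
    refine exists_torus_element P (h.pow_eq_one z.2) (h.pow_eq_one (x i).2) (h.commute hz (x i))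
      (fun q hq => ?_) (fun q hq => h.conj_eq hz hz1 (x i) hq) (y := (y : G)) ?_ ?_
      c hc0 hlx hlz (t : ZMod p) t.ne_zero
    · rw [← (h.commute hz ⟨q, hq⟩).eq, mul_inv_cancel_right]
    · have := congrArg (fun a : ↥(P : Subgroup G) => (a : G) * (x i : G)) hy
      simp only [commutatorElement_def, Subgroup.coe_mul, Subgroup.coe_inv,
        inv_mul_cancel_right] at this
      rw [this, E, ZMod.val_one, pow_one, pow_one]
    · rw [← (h.commute hz y).eq, mul_inv_cancel_right]
  choose n hn hnz s hns using hex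
  let v : ι → Fin 2 → ZMod p := fun i => (f (QuotientGroup.mk (x i))).toAdd
  have hv0 : ∀ i, v i ≠ 0 := by
    intro i h0
    apply hx i
    rw [← QuotientGroup.eq_one_iff]
    apply f.injective
    rw [map_one]
    exact Multiplicative.toAdd.injective h0
  have hdet : ∀ i j, i ≠ j → v i 0 * v j 1 - v i 1 * v j 0 ≠ 0 := by
    intro i j hij h0
    obtain ⟨c, hc⟩ : ∃ c : ZMod p, v j = c • v i := by
      by_cases h00 : v i 0 = 0
      · have h11 : v i 1 ≠ 0 := fun h11 => hv0 i (funext fun r => by fin_cases r <;> assumption)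
        refine ⟨v j 1 / v i 1, funext fun r => ?_⟩
        rw [h00, zero_mul, zero_sub, neg_eq_zero] at h0
        have := (mul_eq_zero.mp h0).resolve_left h11
        fin_cases r <;> simp [h00, this, h11]
      · refine ⟨v j 0 / v i 0, funext fun r => ?_⟩
        fin_cases r <;> simp [h00]
        field_simp
        linear_combination h0
    refine hind i j hij c.val ((QuotientGroup.eq_one_iff _).mp (f.injective ?_))
    rw [QuotientGroup.mk_mul, QuotientGroup.mk_pow, QuotientGroup.mk_inv, map_mul, map_pow, map_inv,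
      map_one]
    apply Multiplicative.toAdd.injective
    rw [toAdd_mul, toAdd_pow, toAdd_inv, toAdd_one]
    show c.val • v i + -v j = 0
    rw [hc, ← Nat.cast_smul_eq_nsmul (ZMod p), ZMod.natCast_zmod_val, add_neg_cancel]
  let hh : ι → ρ.range := fun i => ⟨ρ ⟨n i, hn i⟩, ⟨_, rfl⟩⟩
  have heig : ∀ i, ((hh i : GL (Fin 2) (ZMod p)) : Matrix (Fin 2) (Fin 2) (ZMod p)).mulVec (v i) =
      ((t : ZMod p)⁻¹) • v i := by
    intro i
    show (ρ ⟨n i, hn i⟩).val.mulVec
      (f (QuotientGroup.mk (x i))).toAdd = _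
    rw [hρ, quotientAut_mk]
    have : (⟨n i * (x i : G) * (n i)⁻¹, (Subgroup.mem_normalizer_iff.mp (hn i) _).mp (x i).2⟩ :
        ↥(P : Subgroup G)) = z ^ (s i).val * x i ^ ((t : ZMod p)⁻¹).val :=
      Subtype.ext (by rw [Subgroup.coe_mul, SubgroupClass.coe_pow, SubgroupClass.coe_pow]; exact hns i)
    rw [this, QuotientGroup.mk_mul, QuotientGroup.mk_pow, QuotientGroup.mk_pow,
      (QuotientGroup.eq_one_iff z).mpr hz, one_pow, one_mul, map_pow, toAdd_pow,
      ← Nat.cast_smul_eq_nsmul (ZMod p), ZMod.natCast_zmod_val]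
  -- scalar powers
  have key : ∀ i k, hh i ^ k ∈ CoprimeLinearTwo.scal ρ.range → (p - 1) ∣ 3 * k := by
    intro i k hk
    obtain ⟨c, hc⟩ := hk
    have hc' : ((ρ (⟨n i, hn i⟩ ^ k) : GL (Fin 2) (ZMod p)) : Matrix (Fin 2) (Fin 2) (ZMod p)) =
        c • 1 := by
      rw [map_pow, Units.val_pow_eq_pow_val]
      rw [SubgroupClass.coe_pow, Units.val_pow_eq_pow_val] at hc
      exact hc
    -- the eigenvalue on the line
    have hev : c = ((t : ZMod p)⁻¹) ^ k := by
      have h1 : ∀ k, (((hh i : GL (Fin 2) (ZMod p)) : Matrix (Fin 2) (Fin 2) (ZMod p)) ^ k).mulVec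
          (v i) = ((t : ZMod p)⁻¹) ^ k • v i := by
        intro k
        induction k with
        | zero => rw [pow_zero, pow_zero, Matrix.one_mulVec, one_smul]
        | succ k ih =>
          rw [pow_succ, ← Matrix.mulVec_mulVec, heig, Matrix.mulVec_smul, ih, smul_smul, pow_succ']
      have h2 := h1 k
      have hc2 : ((hh i : GL (Fin 2) (ZMod p)) : Matrix (Fin 2) (Fin 2) (ZMod p)) ^ k = c • 1 := by
        rw [SubgroupClass.coe_pow, Units.val_pow_eq_pow_val] at hc
        exact hc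
      rw [hc2, Matrix.smul_mulVec, Matrix.one_mulVec] at h2
      exact smul_left_injective (ZMod p) (hv0 i) h2
    set m : Subgroup.normalizer ((P : Subgroup G) : Set G) := ⟨n i, hn i⟩ ^ k with hm
    have hscal : ∀ q : ↥(P : Subgroup G), ∃ a ∈ C,
        (⟨(m : G) * (q : G) * (m : G)⁻¹, (Subgroup.mem_normalizer_iff.mp m.2 q).mp q.2⟩ :
          ↥(P : Subgroup G)) = q ^ c.val * a := by
      intro q
      refine ⟨(q ^ c.val)⁻¹ * _, ?_, (mul_inv_cancel_left _ _).symm⟩
      rw [hC, ← QuotientGroup.eq]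
      apply f.injective
      apply Multiplicative.toAdd.injective
      rw [← quotientAut_mk, ← hρ, hc', Matrix.smul_mulVec, Matrix.one_mulVec, QuotientGroup.mk_pow,
        map_pow, toAdd_pow, ← Nat.cast_smul_eq_nsmul (ZMod p), ZMod.natCast_zmod_val]
    have hzk : ∀ k : ℕ, (n i) ^ k * (z : G) * ((n i) ^ k)⁻¹ = (z : G) ^ ((t : ZMod p) ^ k).val := by
      intro k
      induction k with
      | zero => simp [ZMod.val_one]
      | succ k ih =>
        calc (n i) ^ (k + 1) * (z : G) * ((n i) ^ (k + 1))⁻¹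
            = (n i) ^ k * (n i * (z : G) * (n i)⁻¹) * ((n i) ^ k)⁻¹ := by rw [pow_succ]; group
          _ = ((n i) ^ k * (z : G) * ((n i) ^ k)⁻¹) ^ (t : ZMod p).val := by rw [hnz, conj_pow]
          _ = _ := by rw [ih, ← pow_val_mul (h.pow_eq_one z.2), pow_succ]
    obtain ⟨y, hy⟩ := h.exists_comm_eq (hx i) hz
    obtain ⟨a, ha, hay⟩ := hscal y
    obtain ⟨b, hb, hbx⟩ := hscal (x i)
    have hcentral : ∀ u w : ↥(P : Subgroup G), ∀ a ∈ C, ⁅u * a, w⁆ = ⁅u, w⁆ := by
      intro u w a ha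
      rw [h.comm_mul, commutatorElement_eq_one_iff_mul_comm.mpr
        ((Subgroup.mem_center_iff.mp ha w).symm), mul_one]
    have hcomm : ⁅y ^ c.val * a, x i ^ c.val * b⁆ = (z ^ c.val) ^ c.val := by
      rw [hcentral _ _ a ha, ← commutatorElement_inv, hcentral _ _ b hb, h.comm_pow,
        ← inv_pow, commutatorElement_inv, h.comm_pow, hy]
    have hz2 : (z : G) ^ ((t : ZMod p) ^ k).val = ((z : G) ^ c.val) ^ c.val := by
      have hmk : (m : G) = n i ^ k := by rw [hm]; simp
      have h3 := congrArg Subtype.val hcomm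
      rw [← hay, ← hbx] at h3
      simp only [commutatorElement_def, Subgroup.coe_mul, Subgroup.coe_inv,
        SubgroupClass.coe_pow] at h3
      rw [← h3, ← hzk, hmk]
      have hy' := congrArg Subtype.val hy
      simp only [commutatorElement_def, Subgroup.coe_mul, Subgroup.coe_inv] at hy'
      rw [← hy']
      group
    rw [← pow_val_mul (h.pow_eq_one z.2)] at hz2
    have hzord : orderOf (z : G) = p := by
      rw [Subgroup.orderOf_coe, orderOf_eq_prime (h.exp z) hz1]
    have h4 : ((t : ZMod p) ^ k) = c * c := by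
      apply ZMod.val_injective p
      exact pow_injOn_Iio_orderOf (by simp only [Set.mem_Iio]; rw [hzord]; exact ZMod.val_lt _)
        (by simp only [Set.mem_Iio]; rw [hzord]; exact ZMod.val_lt _) hz2
    have h5 : t ^ (3 * k) = 1 := by
      apply Units.ext
      rw [hev] at h4
      push_cast
      have hone : (t : ZMod p) ^ k * ((t : ZMod p)⁻¹) ^ k = 1 := by
        rw [← mul_pow, mul_inv_cancel₀ t.ne_zero, one_pow]
      calc (t : ZMod p) ^ (3 * k) = (t : ZMod p) ^ k * (t : ZMod p) ^ k * (t : ZMod p) ^ k := by ring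
        _ = ((t : ZMod p) ^ k * ((t : ZMod p)⁻¹) ^ k) * ((t : ZMod p) ^ k * ((t : ZMod p)⁻¹) ^ k) *
            1 := by
            conv_lhs => arg 1; arg 1; rw [h4]
            ring
        _ = 1 := by rw [hone]; ring
    rw [← ht]
    exact orderOf_dvd_of_pow_eq_one h5
  refine ⟨fun hp' => (CoprimeLinearTwo.few_lines h.odd ρ.range hH v hdet hh _ heig 6 ?_).2 le_rfl,
    fun hp' => (CoprimeLinearTwo.few_lines h.odd ρ.range hH v hdet hh _ heig 4 ?_).1 le_rfl⟩
  · intro i k hk0 hk hscal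
    have hd := key i k hscal
    rcases hp' with hp' | hp'
    · have := Nat.le_of_dvd (by omega) hd
      omega
    · subst hp'
      interval_cases k <;> norm_num at hd
  · intro i k hk0 hk hscal
    have hd := key i k hscal
    subst hp'
    interval_cases k <;> norm_num at hd

/-- `p` pairwise independent noncentral elements. -/
theorem Cube.exists_lines (h : Cube P) :
    ∃ x : ZMod p → ↥(P : Subgroup G), (∀ i, x i ∉ Subgroup.center ↥(P : Subgroup G)) ∧
      ∀ i j, i ≠ j → ∀ k : ℕ, x i ^ k * (x j)⁻¹ ∉ Subgroup.center ↥(P : Subgroup G) := by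
  set C := Subgroup.center ↥(P : Subgroup G) with hC
  obtain ⟨a, ha⟩ : ∃ a : ↥(P : Subgroup G), a ∉ C := by
    by_contra hcon
    push Not at hcon
    have : C = ⊤ := eq_top_iff.mpr fun q _ => hcon q
    have h2 := h.ext.2
    rw [← hC, this, Subgroup.card_top, h.card] at h2
    have := (Fact.out : p.Prime).one_lt
    nlinarith [mul_pos (Fact.out : p.Prime).pos (Fact.out : p.Prime).pos]
  obtain ⟨z, hz, hz1⟩ := h.exists_center
  obtain ⟨b, hb⟩ := h.exists_comm_eq ha hz
  -- `⁅b, a⁆ = z`; the elements `b * a ^ j`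
  have hba : ∀ (m : ℕ), ⁅b * a ^ m, a⁆ = z := fun m => by
    rw [h.comm_mul, h.comm_pow, commutatorElement_self, one_pow, mul_one, hb]
  have hzero : ∀ u ∈ C, ∀ w : ↥(P : Subgroup G), ⁅u, w⁆ = 1 := fun u hu w =>
    commutatorElement_eq_one_iff_mul_comm.mpr ((Subgroup.mem_center_iff.mp hu w).symm)
  have hzord : orderOf z = p := orderOf_eq_prime (h.exp z) hz1
  refine ⟨fun j => b * a ^ j.val, fun j hj => hz1 ?_, fun i j hij k hmem => ?_⟩
  · rw [← hba j.val]; exact hzero _ hj a
  · -- commutators with `a` and with `b`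
    have h1 := hzero _ hmem a
    have h2 := hzero _ hmem b
    have hinv : ∀ u w : ↥(P : Subgroup G), ⁅u⁻¹, w⁆ = ⁅u, w⁆⁻¹ := fun u w => by
      have := h.comm_mul u u⁻¹ w
      rw [mul_inv_cancel, commutatorElement_one_left] at this
      exact eq_inv_of_mul_eq_one_right this.symm
    rw [h.comm_mul, hinv, h.comm_pow] at h1 h2
    simp only [hba] at h1
    have hab : ∀ m : ℕ, ⁅b * a ^ m, b⁆ = (z⁻¹) ^ m := fun m => by
      rw [h.comm_mul, h.comm_pow, commutatorElement_self, one_mul, ← commutatorElement_inv, hb]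
    simp only [hab] at h2
    have hk : (k : ZMod p) = 1 := by
      have h3 : z ^ k = z ^ 1 := by rw [pow_one]; exact mul_inv_eq_one.mp h1
      rw [pow_eq_pow_iff_modEq, hzord] at h3
      simpa using (ZMod.natCast_eq_natCast_iff _ _ _).mpr h3
    have hkij : (z⁻¹) ^ (i.val * k) = (z⁻¹) ^ j.val := by
      rw [pow_mul]; exact mul_inv_eq_one.mp h2
    rw [pow_eq_pow_iff_modEq, orderOf_inv, hzord, ← ZMod.natCast_eq_natCast_iff] at hkij
    push_cast at hkij
    rw [hk, mul_one, ZMod.natCast_zmod_val, ZMod.natCast_zmod_val] at hkij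
    exact hij hkij

end CfsgLib.LocalEvenBasic.CubeLines
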