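import Cfsg.Agent.Transfer.GlaubermanThompson
import Cfsg.Agent.Transfer.StronglyClosedCriterion
import Cfsg.Agent.LocalEven50.HNilpotent

/-!
# A characteristic subgroup deciding the existence of a normal `p`-complement

`K(S)`: with `Z = Z(J(S))` and `C = C_S(Z)`, the preimage in `C` of `K(C/Z)`.
-/

set_option autoImplicit false

namespace CfsgLib.LocalEvenBasic

open Subgroup CfsgLib.Transfer
open Cfsg (HasNormalPComplement pResidual centerThompsonOf)
open scoped commutatorElement

universe u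

variable {p : ℕ} [Fact p.Prime]

/-- A power of a lift of an element of order prime to `p` has order prime to `p`. -/
theorem exists_lift_coprime {A B : Type*} [Group A] [Finite A] [Group B] (f : A →* B) (a : A)
    (hg : (orderOf (f a)).Coprime p) :
    ∃ y : A, (orderOf y).Coprime p ∧ y ∈ zpowers a ∧ f a ∈ zpowers (f y) := by
  set q := p ^ (orderOf a).factorization p with hq
  refine ⟨a ^ q, ?_, pow_mem (mem_zpowers a) q, ?_⟩
  · rw [orderOf_pow_of_dvd (pow_ne_zero _ (Fact.out : p.Prime).ne_zero) (Nat.ordProj_dvd _ p),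
      Nat.coprime_comm, (Fact.out : p.Prime).coprime_iff_not_dvd]
    exact Nat.not_dvd_ordCompl Fact.out (orderOf_pos a).ne'
  · obtain ⟨m, hm⟩ := exists_pow_eq_self_of_coprime (n := q) (x := f a)
      (Nat.Coprime.pow_left _ (Nat.coprime_comm.1 hg))
    rw [map_pow]
    have := pow_mem (mem_zpowers (f a ^ q)) m
    rwa [hm] at this

/-- With a normal `p`-complement, `p'`-elements centralise the `p`-subgroups they normalise. -/
theorem mem_centralizer_of_hasNormalPComplement {G : Type*} [Group G] [Finite G]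
    (h : HasNormalPComplement p G) {K : Subgroup G} (hK : IsPGroup p K) {g : G}
    (hg : g ∈ normalizer (K : Set G)) (hgc : (orderOf g).Coprime p) :
    g ∈ centralizer (K : Set G) := by
  intro k hk
  have h1 : ⁅g, k⁆ ∈ K ⊓ pResidual p G := mem_inf.2 ⟨by
      rw [commutatorElement_def]
      exact mul_mem ((mem_normalizer_iff.1 hg k).1 hk) (inv_mem hk), by
      have hgR := mem_pResidual_of_coprime hgc
      rw [commutatorElement_def, mul_assoc, mul_assoc, ← mul_assoc k]
      exact mul_mem hgR ((inferInstance : (pResidual p G).Normal).conj_mem _ (inv_mem hgR) k)⟩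
  rw [inf_comm, inf_eq_bot_of_not_dvd_card (hasNormalPComplement_iff.1 h) hK, mem_bot,
    commutatorElement_eq_one_iff_mul_comm] at h1
  exact h1.symm

/-- A normal subgroup with a normal `p`-complement that contains all `p'`-elements gives one. -/
theorem hasNormalPComplement_of_coprime_mem {G : Type*} [Group G] [Finite G] (L : Subgroup G)
    (hL : HasNormalPComplement p L) (h : ∀ g : G, (orderOf g).Coprime p → g ∈ L) :
    HasNormalPComplement p G := by
  rw [hasNormalPComplement_iff] at hL ⊢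
  intro hd
  refine hL (hd.trans ?_)
  rw [← card_map_of_injective (f := L.subtype) L.subtype_injective]
  refine card_dvd_of_le ((closure_le _).2 fun g hg => ⟨⟨g, h g hg⟩, mem_pResidual_of_coprime ?_, rfl⟩)
  rw [← orderOf_coe]
  exact hg

/-- A normal `p`-complement lifts over a central `p`-subgroup. -/
theorem hasNormalPComplement_of_central_pgroup {G : Type u} [Group G] [Finite G] (Z : Subgroup G)
    [Z.Normal] (hZ : IsPGroup p Z) (hc : Z ≤ center G) (h : HasNormalPComplement p (G ⧸ Z)) :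
    HasNormalPComplement p G := by
  set f := QuotientGroup.mk' Z with hf
  set M := (pResidual p (G ⧸ Z)).comap f with hM
  haveI : M.Normal := Subgroup.Normal.comap inferInstance _
  have hMcop : ∀ g : G, (orderOf g).Coprime p → g ∈ M := fun g hg =>
    mem_comap.2 (mem_pResidual_of_coprime (Nat.Coprime.coprime_dvd_left (orderOf_map_dvd f g) hg))
  refine hasNormalPComplement_of_coprime_mem M ?_ hMcop
  have hZM : Z ≤ M := fun z hz => by
    rw [hM, mem_comap, hf, QuotientGroup.mk'_apply, (QuotientGroup.eq_one_iff z).2 hz]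
    exact one_mem _
  have hidx : ¬ p ∣ (Z.subgroupOf M).index := by
    have e : (Z.subgroupOf M).index = Nat.card ↥(pResidual p (G ⧸ Z)) := by
      have h2 := relIndex_ker (K := M) f
      rw [hM, map_comap_eq_self_of_surjective (QuotientGroup.mk'_surjective Z), ← hM, hf,
        QuotientGroup.ker_mk'] at h2
      exact h2
    rw [e]
    exact hasNormalPComplement_iff.1 h
  let P : Sylow p M := (hZ.comap_subtype (K := M)).toSylow hidx
  exact ⟨P, _, inferInstance, MonoidHom.ker_transferSylow_isComplement' P fun m _ z hz =>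
    Subtype.ext (mem_center_iff.1 (hc hz) (m : G)).symm⟩

/-- The two properties asked of the deciding subgroup, in terms of an embedding of `S`. -/
def IsDeciding (p : ℕ) (S : Type u) [Group S] (K : Subgroup S) : Prop :=
  K.Characteristic ∧ centralizer (K : Set S) ≤ K ∧
    ∀ (G : Type u) [Group G] [Finite G] (ι : S →* G), Function.Injective ι →
      ∀ P : Sylow p G, ι.range = (P : Subgroup G) →
      (∀ g ∈ normalizer ((K.map ι : Subgroup G) : Set G), (orderOf g).Coprime p →
        g ∈ centralizer ((K.map ι : Subgroup G) : Set G)) → HasNormalPComplement p G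

theorem exists_deciding (hp2 : p ≠ 2) : ∀ (S : Type u) [Group S] [Finite S], IsPGroup p S →
    ∃ K : Subgroup S, IsDeciding p S K := by
  suffices H : ∀ (n : ℕ) (S : Type u) [Group S] [Finite S], Nat.card S = n → IsPGroup p S →
      ∃ K : Subgroup S, IsDeciding p S K from fun S _ _ => H _ S rfl
  intro n
  induction n using Nat.strongRecOn with
  | ind n ih =>
  intro S _ _ hn hS
  subst hn
  by_cases htriv : (⊤ : Subgroup S) = ⊥
  · refine ⟨⊤, inferInstance, le_top, fun G _ _ ι _ P hr _ =>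
      hasNormalPComplement_of_not_dvd_card fun hd => ?_⟩
    have h1 : (P : Subgroup G) = ⊥ := by
      rw [← hr, MonoidHom.range_eq_map, htriv, Subgroup.map_bot]
    have h2 := P.card_eq_multiplicity
    rw [h1, card_bot] at h2
    have h3 : 1 ≤ (Nat.card G).factorization p :=
      ((Fact.out : p.Prime).dvd_iff_one_le_factorization Nat.card_pos.ne').1 hd
    have h4 := Nat.one_lt_pow (by omega : (Nat.card G).factorization p ≠ 0)
      (Fact.out : p.Prime).one_lt
    omega
  set Z := centerThompsonOf p (⊤ : Subgroup S) with hZ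
  have hmapZ : ∀ e : S ≃* S, Z.map e.toMonoidHom = Z := fun e => by
    rw [hZ, SolvCrit.map_centerThompson e.toMonoidHom e.injective p,
      Subgroup.map_top_of_surjective e.toMonoidHom e.surjective]
  set C := centralizer (Z : Set S) with hC
  have hZC : Z ≤ C := fun a ha b hb => (ha.2 b hb.1 : b * a = a * b)
  haveI hZ'n : (Z.subgroupOf C).Normal := ⟨fun z hz c => by
    rw [mem_subgroupOf] at hz ⊢
    have h1 : z.1 * c.1 = c.1 * z.1 := c.2 _ hz
    rw [Subgroup.coe_mul, Subgroup.coe_mul, Subgroup.coe_inv, ← h1, mul_inv_cancel_right]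
    exact hz⟩
  have hlt : Nat.card (C ⧸ Z.subgroupOf C) < Nat.card S := by
    refine lt_of_lt_of_le ?_ (card_le_card_group C)
    rw [← index_eq_card, ← card_mul_index (Z.subgroupOf C)]
    refine lt_mul_of_one_lt_left (Nat.pos_of_ne_zero index_ne_zero_of_finite) ?_
    rw [one_lt_card_iff_ne_bot, Ne, subgroupOf_eq_bot]
    exact fun h => SolvCrit.centerThompson_ne_bot (hS.to_subgroup ⊤) htriv
      (disjoint_self.1 (h.mono_right hZC))
  obtain ⟨K₁, hK₁c, hK₁C, hK₁⟩ := ih _ hlt (C ⧸ Z.subgroupOf C) rfl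
    ((hS.to_subgroup C).to_quotient _)
  set π := QuotientGroup.mk' (Z.subgroupOf C) with hπ
  set K := (K₁.comap π).map C.subtype with hK
  have hKC : K ≤ C := map_subtype_le _
  have hZK : Z ≤ K := fun z hz => ⟨⟨z, hZC hz⟩, by
    rw [SetLike.mem_coe, mem_comap, hπ, QuotientGroup.mk'_apply,
      (QuotientGroup.eq_one_iff _).2 (mem_subgroupOf.2 hz)]
    exact one_mem _, rfl⟩
  have hinv : ∀ α : C ≃* C, (∀ c : C, (c : S) ∈ Z → (α c : S) ∈ Z) →
      ∀ c : C, (c : S) ∈ K → (α c : S) ∈ K := by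
    intro α hα c hc
    obtain ⟨c', hc', he⟩ := hc
    obtain rfl : c' = c := Subtype.ext he
    have hmap : (Z.subgroupOf C).map α.toMonoidHom = Z.subgroupOf C :=
      eq_of_le_of_card_ge (by rintro _ ⟨z, hz, rfl⟩; exact hα z hz)
        (card_map_of_injective α.injective).ge
    let ᾱ := QuotientGroup.congr (Z.subgroupOf C) (Z.subgroupOf C) α hmap
    have hK1 : K₁.map ᾱ.toMonoidHom = K₁ := characteristic_iff_map_eq.1 hK₁c ᾱ
    refine ⟨α c', ?_, rfl⟩
    rw [SetLike.mem_coe, mem_comap, ← hK1]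
    exact ⟨π c', hc', rfl⟩
  refine ⟨K, ?_, ?_, ?_⟩
  · rw [characteristic_iff_map_le]
    intro e
    have hCe : C.map e.toMonoidHom = C := by
      refine eq_of_le_of_card_ge ?_ (card_map_of_injective e.injective).ge
      rintro _ ⟨c, hc, rfl⟩ z hz
      rw [← hmapZ e] at hz
      obtain ⟨z₀, hz₀, rfl⟩ := hz
      rw [← map_mul, ← map_mul, hc z₀ hz₀]
    rintro _ ⟨k, hk, rfl⟩
    let α : C ≃* C := (e.subgroupMap C).trans (MulEquiv.subgroupCongr hCe)
    exact hinv α (fun c hc => (hmapZ e).le ⟨c, hc, rfl⟩) ⟨k, hKC hk⟩ hk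
  · intro x hx
    have hxC : x ∈ C := fun z hz => hx z (hZK hz)
    refine ⟨⟨x, hxC⟩, hK₁C fun k hk => ?_, rfl⟩
    obtain ⟨k, rfl⟩ := QuotientGroup.mk'_surjective _ k
    show π k * π ⟨x, hxC⟩ = π ⟨x, hxC⟩ * π k
    rw [← map_mul, ← map_mul]
    exact congrArg π (Subtype.ext (hx k ⟨k, hk, rfl⟩))
  intro G _ _ ι hι P hr h
  set ZG := Z.map ι with hZG
  have hZG' : ZG = centerThompsonOf p (P : Subgroup G) := by
    rw [hZG, hZ, SolvCrit.map_centerThompson ι hι p, ← MonoidHom.range_eq_map, hr]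
  refine GlaubermanThompson.glauberman_thompson hp2 P ?_
  rw [← hZG']
  set N := normalizer (ZG : Set G) with hN
  set L := centralizer (ZG : Set G) with hL
  have hLN : L ≤ N := centralizer_le_normalizer _
  have hPN : (P : Subgroup G) ≤ N := by
    rw [hN, hZG']
    exact le_normalizer.trans (SolvCrit.normalizer_le_normalizer_centerThompson p _)
  -- the Sylow subgroup of `L`
  have hPL : (P : Subgroup G) ⊓ L = C.map ι := by
    rw [← hr]
    refine le_antisymm ?_ ?_
    · rintro _ ⟨⟨c, rfl⟩, hc⟩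
      exact ⟨c, fun z hz => hι (by rw [map_mul, map_mul]; exact hc _ (mem_map_of_mem ι hz)), rfl⟩
    · rintro _ ⟨c, hc, rfl⟩
      refine ⟨⟨c, rfl⟩, ?_⟩
      rintro _ ⟨z, hz, rfl⟩
      rw [← map_mul, ← map_mul, hc z hz]
  -- `N = L · N(C_P(Z))` and the `p'`-part of the latter centralises `K`
  have hkey : ∀ m ∈ N, m ∈ normalizer ((C.map ι : Subgroup G) : Set G) →
      m ∈ normalizer ((K.map ι : Subgroup G) : Set G) := by
    intro m hmN hmC
    let β : C ≃* C.map ι := C.equivMapOfInjective ι hι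
    let γ : C.map ι ≃* C.map ι :=
      ((MulAut.conj m).subgroupMap (C.map ι)).trans
        (MulEquiv.subgroupCongr (mem_normalizer_iff_map_conj_eq.1 hmC))
    let α : C ≃* C := β.trans (γ.trans β.symm)
    have hαι : ∀ c : C, ι (α c) = m * ι c * m⁻¹ := fun c => by
      show (β (α c) : G) = m * ι c * m⁻¹
      simp only [α, MulEquiv.trans_apply, MulEquiv.apply_symm_apply]
      rfl
    refine LocalStructure.mem_normalizer_of_forall ?_
    rintro _ ⟨k, hk, rfl⟩
    refine ⟨α ⟨k, hKC hk⟩, hinv α (fun c hc => ?_) ⟨k, hKC hk⟩ hk, hαι _⟩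
    obtain ⟨z, hz, hze⟩ := (mem_normalizer_iff.1 hmN (ι c)).1 (mem_map_of_mem ι hc)
    rw [← hι (hze.trans (hαι c).symm)]
    exact hz
  have hNL : ∀ g : N, (orderOf g).Coprime p → (g : G) ∈ L := by
    intro g hg
    haveI : (L.subgroupOf N).Normal := ⟨fun x hx n => mem_subgroupOf.2 fun z hz => by
      have hz' := (mem_normalizer_iff''.1 n.2 z).1 hz
      have h1 := mem_subgroupOf.1 hx _ hz'
      show z * ((n : G) * x * (n : G)⁻¹) = (n : G) * x * (n : G)⁻¹ * z
      calc z * ((n : G) * x * (n : G)⁻¹) = (n : G) * ((n : G)⁻¹ * z * n * x) * (n : G)⁻¹ := by group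
        _ = (n : G) * (x * ((n : G)⁻¹ * z * n)) * (n : G)⁻¹ := by rw [h1]
        _ = _ := by group⟩
    obtain ⟨Q, hQ⟩ := UniqueMaximal.exists_sylow_map_eq_inf (L.subgroupOf N) (P.subtype hPN)
    have htop := Sylow.normalizer_sup_eq_top Q
    rw [hQ] at htop
    set π' := QuotientGroup.mk' (L.subgroupOf N) with hπ'
    obtain ⟨m, hm, l, hl, hml⟩ : ∃ m ∈ normalizer ((((P.subtype hPN : Sylow p N) : Subgroup N) ⊓
        L.subgroupOf N : Subgroup N) : Set N), ∃ l ∈ L.subgroupOf N, m * l = g :=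
      mem_sup_of_normal_right.1 (htop.symm ▸ mem_top g)
    have hgm : π' g = π' m := by
      rw [← hml, map_mul, hπ', QuotientGroup.mk'_apply _ l, (QuotientGroup.eq_one_iff l).2 hl, mul_one]
    obtain ⟨y, hy, hym, hgy⟩ := exists_lift_coprime (p := p) π' m
      (hgm ▸ Nat.Coprime.coprime_dvd_left (orderOf_map_dvd π' g) hg)
    have hyC : (y : G) ∈ normalizer ((C.map ι : Subgroup G) : Set G) := by
      have hy1 := zpowers_le.2 hm hym
      rw [← hPL]
      refine LocalStructure.mem_normalizer_of_forall fun x hx => ?_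
      have h1 := (mem_normalizer_iff.1 hy1 ⟨x, hPN hx.1⟩).1 ⟨hx.1, hx.2⟩
      exact ⟨h1.1, h1.2⟩
    have hyK := h _ (hkey _ y.2 hyC) (by rwa [orderOf_coe])
    have hyL : y ∈ L.subgroupOf N := fun z hz => hyK z (map_mono hZK hz)
    have hy1 : π' y = 1 := (QuotientGroup.eq_one_iff y).2 hyL
    rw [← hgm, hy1, zpowers_one_eq_bot, mem_bot] at hgy
    exact (QuotientGroup.eq_one_iff g).1 hgy
  refine hasNormalPComplement_of_coprime_mem (L.subgroupOf N)
    ((hasNormalPComplement_congr (subgroupOfEquivOfLe hLN)).2 ?_) hNL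
  -- `L / Z(J(P))`
  set ZL := ZG.subgroupOf L with hZL
  have hZLc : ZL ≤ center L := fun z hz => mem_center_iff.2 fun l =>
    Subtype.ext (l.2 _ hz).symm
  haveI : ZL.Normal := ⟨fun z hz l => by
    rw [mem_center_iff.1 (hZLc hz) l, mul_inv_cancel_right]; exact hz⟩
  refine hasNormalPComplement_of_central_pgroup ZL
    ((P.isPGroup'.to_le (hZG' ▸ SolvCrit.centerThompson_le p _)).comap_subtype) hZLc ?_
  let ιC : C →* L := (ι.comp C.subtype).codRestrict L fun c => by
    rintro _ ⟨z, hz, rfl⟩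
    show ι z * ι c = ι c * ι z
    rw [← map_mul, ← map_mul, c.2 z hz]
  let φ : C →* L ⧸ ZL := (QuotientGroup.mk' ZL).comp ιC
  have hker : φ.ker = Z.subgroupOf C := by
    ext c
    rw [MonoidHom.mem_ker, MonoidHom.comp_apply, QuotientGroup.mk'_apply, QuotientGroup.eq_one_iff]
    constructor
    · rintro ⟨z, hz, hze⟩
      exact mem_subgroupOf.2 (by rw [show (c : S) = z from (hι hze).symm]; exact hz)
    · exact fun hc => mem_map_of_mem ι hc
  let ι' : C ⧸ Z.subgroupOf C →* L ⧸ ZL := QuotientGroup.lift _ φ hker.ge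
  have hι' : Function.Injective ι' := by
    rw [← MonoidHom.ker_eq_bot_iff, QuotientGroup.ker_lift, hker, QuotientGroup.map_mk'_self]
  haveI : (L.subgroupOf N).Normal := ⟨fun x hx n => mem_subgroupOf.2 fun z hz => by
    have hz' := (mem_normalizer_iff''.1 n.2 z).1 hz
    have h1 := mem_subgroupOf.1 hx _ hz'
    show z * ((n : G) * x * (n : G)⁻¹) = (n : G) * x * (n : G)⁻¹ * z
    calc z * ((n : G) * x * (n : G)⁻¹) = (n : G) * ((n : G)⁻¹ * z * n * x) * (n : G)⁻¹ := by group
      _ = (n : G) * (x * ((n : G)⁻¹ * z * n)) * (n : G)⁻¹ := by rw [h1]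
      _ = _ := by group⟩
  obtain ⟨Q, hQ⟩ := UniqueMaximal.exists_sylow_map_eq_inf (L.subgroupOf N) (P.subtype hPN)
  let T : Sylow p L := Q.mapSurjective (f := (subgroupOfEquivOfLe hLN).toMonoidHom)
    (subgroupOfEquivOfLe hLN).surjective
  have hT : (T : Subgroup L) = ιC.range := by
    rw [show (T : Subgroup L) = (Q : Subgroup _).map (subgroupOfEquivOfLe hLN).toMonoidHom from
      Sylow.coe_mapSurjective _ Q]
    apply map_injective L.subtype_injective
    rw [Subgroup.map_map, MonoidHom.map_range,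
      show L.subtype.comp ιC = ι.comp C.subtype from rfl, MonoidHom.range_comp, range_subtype, ← hPL]
    have h2 : L.subtype.comp (subgroupOfEquivOfLe hLN).toMonoidHom =
        N.subtype.comp (L.subgroupOf N).subtype := rfl
    rw [h2, ← Subgroup.map_map, hQ, map_inf _ _ _ N.subtype_injective, map_subgroupOf_eq_of_le hLN,
      Sylow.coe_subtype, map_subgroupOf_eq_of_le hPN]
  refine hK₁ (L ⧸ ZL) ι' hι' (T.mapSurjective (QuotientGroup.mk'_surjective ZL)) ?_ ?_
  · rw [Sylow.coe_mapSurjective, hT, MonoidHom.map_range]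
    show ι'.range = φ.range
    rw [show φ = ι'.comp π from rfl, MonoidHom.range_comp,
      MonoidHom.range_eq_top.2 (QuotientGroup.mk'_surjective _), ← MonoidHom.range_eq_map]
  intro g hg hgc
  obtain ⟨l, rfl⟩ := QuotientGroup.mk'_surjective ZL g
  obtain ⟨y, hy, hyl, hly⟩ := exists_lift_coprime (p := p) (QuotientGroup.mk' ZL) l hgc
  have hyg : QuotientGroup.mk' ZL y ∈ zpowers (QuotientGroup.mk' ZL l) := by
    rw [← MonoidHom.map_zpowers]; exact mem_map_of_mem _ hyl
  have hyN : QuotientGroup.mk' ZL y ∈ normalizer ((K₁.map ι' : Subgroup (L ⧸ ZL)) : Set (L ⧸ ZL)) :=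
    zpowers_le.2 hg hyg
  have hyK : (y : G) ∈ normalizer ((K.map ι : Subgroup G) : Set G) := by
    refine LocalStructure.mem_normalizer_of_forall ?_
    rintro _ ⟨_, ⟨k, hk, rfl⟩, rfl⟩
    obtain ⟨k₁, hk₁, hke⟩ := (mem_normalizer_iff.1 hyN (φ k)).1 ⟨π k, hk, rfl⟩
    obtain ⟨k', rfl⟩ := QuotientGroup.mk'_surjective _ k₁
    have he : QuotientGroup.mk' ZL (ιC k') = QuotientGroup.mk' ZL (y * ιC k * y⁻¹) := by
      rw [map_mul, map_mul, map_inv]; exact hke
    obtain ⟨z, hz, hze⟩ := (QuotientGroup.eq.1 he : (ιC k')⁻¹ * (y * ιC k * y⁻¹) ∈ ZL)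
    refine ⟨(k' : S) * z, mul_mem ⟨k', hk₁, rfl⟩ (hZK hz), ?_⟩
    rw [map_mul, hze]
    show ι k' * ((ι k')⁻¹ * ((y : G) * ι k * (y : G)⁻¹)) = _
    rw [mul_inv_cancel_left]
    rfl
  have hyc := h _ hyK (by rwa [orderOf_coe])
  refine zpowers_le.2 ?_ hly
  rintro _ ⟨k₁, hk₁, rfl⟩
  obtain ⟨k, rfl⟩ := QuotientGroup.mk'_surjective _ k₁
  show QuotientGroup.mk' ZL (ιC k) * QuotientGroup.mk' ZL y =
    QuotientGroup.mk' ZL y * QuotientGroup.mk' ZL (ιC k)
  rw [← map_mul, ← map_mul]
  exact congrArg _ (Subtype.ext (hyc _ (mem_map_of_mem ι ⟨k, hk₁, rfl⟩)))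

end CfsgLib.LocalEvenBasic
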