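import Cfsg.Agent.Coprime.Generation
import Mathlib.Algebra.Ring.Subring.Basic
import Mathlib.Algebra.CharP.Lemmas
import Mathlib.RingTheory.Ideal.Quotient.Basic
import Mathlib.FieldTheory.Perfect

/-!
# An isotropic cyclic span with a long orbit

An abelian `p`-group (`p ≥ 5`) normalises a commutative `p'`-group of operators of a vector space
with an invariant alternating form, without centralising it.  Then some vector `v` has pairwise
orthogonal differences `a v - v`, and the set of these differences, modulo fixed points, is not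
closed under doubling.
-/

set_option autoImplicit false

namespace CfsgLib.LocalEvenBasic.IsotropicSpan

variable {p : ℕ} [Fact p.Prime]
variable {V : Type*} [AddCommGroup V] [Finite V]

theorem prime_dvd_of_zsmul_eq_zero (hexp : ∀ v : V, p • v = 0) {y : V} (hy : y ≠ 0) {n : ℤ}
    (h : n • y = 0) : (p : ℤ) ∣ n := by
  have : addOrderOf y = p := addOrderOf_eq_prime (hexp y) hy
  rw [← this]
  exact addOrderOf_dvd_iff_zsmul_eq_zero.2 h

theorem eq_zero_of_nsmul (hexp : ∀ v : V, p • v = 0) {n : ℕ} (hn : ¬ p ∣ n) {y : V}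
    (h : n • y = 0) : y = 0 := by
  by_contra hy
  have h' : (n : ℤ) • y = 0 := by rw [natCast_zsmul]; exact h
  exact hn (Int.natCast_dvd_natCast.1 (prime_dvd_of_zsmul_eq_zero hexp hy h'))

variable {𝔄 : Type*} [CommGroup 𝔄] {𝔎 : Type*} [Group 𝔎]
  {ρA : 𝔄 →* AddMonoid.End V} {ρK : 𝔎 →* AddMonoid.End V} {act : 𝔄 →* MulAut 𝔎}

theorem conj_eq (hcompat : ∀ a q, ρA a * ρK q = ρK (act a q) * ρA a) (a : 𝔄) (q : 𝔎) :
    ρA a * ρK q * ρA a⁻¹ = ρK (act a q) := by
  rw [hcompat, mul_assoc, ← map_mul, mul_inv_cancel, map_one, mul_one]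

variable {W : Type*} [AddCommGroup W]

/-- The case where the whole group acts on the operators as powers of one element. -/
theorem exists_vector_of_cyclic [Finite 𝔄] (hp : 5 ≤ p) (hexp : ∀ v : V, p • v = 0)
    (h𝔄 : IsPGroup p 𝔄) (hcompat : ∀ a q, ρA a * ρK q = ρK (act a q) * ρA a)
    (hKcomm : ∀ q q' : 𝔎, Commute (ρK q) (ρK q')) (hKcop : ∀ q, ∃ m, ¬ p ∣ m ∧ ρK q ^ m = 1)
    (f : V →+ V →+ W) (halt : ∀ v, f v v = 0) (hW : ∀ w : W, w + w = 0 → w = 0)
    (hfK : ∀ q u v, f (ρK q u) (ρK q v) = f u v)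
    (hfA : ∀ a, ∃ T : W → W, ∀ u v, f (ρA a u) (ρA a v) = T (f u v))
    (g : 𝔄) (hg : ∀ b, ∃ i : ℕ, ∀ q, ρK (act b q) = ρK (act (g ^ i) q))
    (hnt : ∃ q, ρK (act g q) ≠ ρK q) :
    ∃ v, (∀ a b, f (ρA a v - v) (ρA b v - v) = 0) ∧
      ∀ b, ∃ a, ρA a (ρA b v - v - 2 • (ρA g v - v)) ≠ ρA b v - v - 2 • (ρA g v - v) := by
  classical
  have hpp : p.Prime := Fact.out
  have hp2 : ¬ p ∣ 2 := fun h => by have := Nat.le_of_dvd (by omega) h; omega
  have hp6 : ¬ p ∣ 6 := fun h => by
    have h1 := Nat.le_of_dvd (by omega) h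
    have : p = 5 ∨ p = 6 := by omega
    rcases this with rfl | rfl
    · norm_num at h
    · exact absurd hpp (by decide)
  let S : Subring (AddMonoid.End V) := Subring.closure (Set.range ρK)
  letI hS : CommRing S := Subring.closureCommRingOfComm (by
    rintro _ ⟨q, rfl⟩ _ ⟨q', rfl⟩
    exact hKcomm q q')
  let ι : 𝔎 → S := fun q => ⟨ρK q, Subring.subset_closure ⟨q, rfl⟩⟩
  have hι1 : ι 1 = 1 := Subtype.ext (map_one ρK)
  have hιm : ∀ q q', ι (q * q') = ι q * ι q' := fun q q' => Subtype.ext (map_mul ρK q q')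
  -- the ring is reduced
  have hnontriv : Nontrivial S := by
    obtain ⟨q, hq⟩ := hnt
    exact ⟨⟨ι (act g q), ι q, fun h => hq (congrArg Subtype.val h)⟩⟩
  have hpzero : (p : S) = 0 := by
    refine Subtype.ext (DFunLike.ext _ _ fun v => ?_)
    simpa using hexp v
  haveI : CharP S p := (CharP.charP_iff_prime_eq_zero hpp).mpr hpzero
  haveI : ExpChar S p := ExpChar.prime hpp
  haveI : Finite (AddMonoid.End V) :=
    Finite.of_injective (fun φ : AddMonoid.End V => (φ : V → V)) DFunLike.coe_injective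
  haveI : Finite S := Subtype.finite
  have hF : Function.Bijective (frobenius S p) := by
    refine Finite.surjective_iff_bijective.1 fun x => ?_
    suffices h : ∀ (y : AddMonoid.End V) (hy : y ∈ S), (⟨y, hy⟩ : S) ∈ (frobenius S p).range from
      h _ x.2
    intro y hy
    induction hy using Subring.closure_induction with
    | mem y hy =>
      obtain ⟨q, rfl⟩ := hy
      obtain ⟨m, hm, hqm⟩ := hKcop q
      obtain ⟨k, hk⟩ := exists_pow_eq_self_of_coprime (x := ρK q) (n := p)
        ((hpp.coprime_iff_not_dvd.2 hm).coprime_dvd_right (orderOf_dvd_of_pow_eq_one hqm))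
      refine ⟨ι q ^ k, Subtype.ext ?_⟩
      show ((ι q ^ k) ^ p : S).1 = ρK q
      rw [SubmonoidClass.coe_pow, SubmonoidClass.coe_pow, ← pow_mul, mul_comm, pow_mul]
      exact hk
    | zero => exact zero_mem (frobenius S p).range
    | one => exact one_mem (frobenius S p).range
    | add a b _ _ ha hb => exact add_mem ha hb
    | mul a b _ _ ha hb => exact mul_mem ha hb
    | neg a _ ha => exact neg_mem ha
  let F : Equiv.Perm S := Equiv.ofBijective _ hF
  have hFfix : ∀ s : S, s ^ p ^ orderOf F = s := by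
    intro s
    have h1 : (⇑(F : S ≃ S))^[orderOf F] s = s := by
      rw [← Equiv.Perm.coe_pow, pow_orderOf_eq_one]; rfl
    rw [← iterate_frobenius]
    exact h1
  have hN2 : 2 ≤ p ^ orderOf F :=
    le_trans hpp.two_le (Nat.le_self_pow (orderOf_pos F).ne' p)
  -- conjugation
  have hmem : ∀ (a : 𝔄) (r : S), ρA a * (r : AddMonoid.End V) * ρA a⁻¹ ∈ S := by
    intro a r
    obtain ⟨r, hr⟩ := r
    induction hr using Subring.closure_induction with
    | mem y hy =>
      obtain ⟨q, rfl⟩ := hy
      exact Subring.subset_closure ⟨act a q, (conj_eq hcompat a q).symm⟩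
    | zero => simp
    | one =>
      rw [mul_one, ← map_mul, mul_inv_cancel, map_one]
      exact one_mem S
    | add a b _ _ ha hb => rw [mul_add, add_mul]; exact add_mem ha hb
    | mul x y _ _ hx hy =>
      have : ρA a * (x * y) * ρA a⁻¹ = (ρA a * x * ρA a⁻¹) * (ρA a * y * ρA a⁻¹) := by
        calc ρA a * (x * y) * ρA a⁻¹ = ρA a * x * (ρA a⁻¹ * ρA a) * (y * ρA a⁻¹) := by
              rw [← map_mul ρA, inv_mul_cancel, map_one, mul_one]; simp only [mul_assoc]
          _ = _ := by simp only [mul_assoc]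
      rw [this]; exact mul_mem hx hy
    | neg x _ hx => rw [mul_neg, neg_mul]; exact neg_mem hx
  let σ : 𝔄 → S →+* S := fun a =>
    { toFun := fun r => ⟨ρA a * r * ρA a⁻¹, hmem a r⟩
      map_one' := Subtype.ext (by
        show ρA a * 1 * ρA a⁻¹ = 1
        rw [mul_one, ← map_mul, mul_inv_cancel, map_one])
      map_zero' := Subtype.ext (by simp)
      map_add' := fun x y => Subtype.ext (by simp [mul_add, add_mul])
      map_mul' := fun x y => Subtype.ext (by
        show ρA a * ((x : AddMonoid.End V) * y) * ρA a⁻¹ = _ * _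
        calc ρA a * ((x : AddMonoid.End V) * y) * ρA a⁻¹
            = ρA a * x * (ρA a⁻¹ * ρA a) * (y * ρA a⁻¹) := by
              rw [← map_mul ρA, inv_mul_cancel, map_one, mul_one]; simp only [mul_assoc]
          _ = _ := by simp only [mul_assoc]) }
  have hσι : ∀ a q, σ a (ι q) = ι (act a q) := fun a q => Subtype.ext (conj_eq hcompat a q)
  have hσσ : ∀ a b r, σ a (σ b r) = σ (a * b) r := fun a b r => Subtype.ext (by
    show ρA a * (ρA b * r * ρA b⁻¹) * ρA a⁻¹ = ρA (a * b) * r * ρA (a * b)⁻¹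
    rw [mul_inv_rev, map_mul, map_mul]
    simp only [mul_assoc])
  have hσ1 : ∀ r, σ 1 r = r := fun r => Subtype.ext (by
    show ρA 1 * r * ρA 1⁻¹ = _
    rw [inv_one, map_one, one_mul, mul_one])
  have hmulA : ∀ (a b : 𝔄) (v : V), ρA (a * b) v = ρA a (ρA b v) := fun a b v => by
    rw [map_mul]; rfl
  have hone : ∀ v : V, ρA 1 v = v := fun v => by rw [map_one]; rfl
  have hσapp : ∀ a (r : S) (v : V), (σ a r).1 (ρA a v) = ρA a (r.1 v) := fun a r v => by
    show ρA a (r.1 (ρA a⁻¹ (ρA a v))) = _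
    rw [← hmulA, inv_mul_cancel, hone]
  -- operators trivial on fixed vectors
  let I : Ideal S :=
    { carrier := {r | ∀ x : V, (∀ a, ρA a x = x) → r.1 x = 0}
      zero_mem' := fun x _ => rfl
      add_mem' := fun {r s} hr hs x hx => by
        show r.1 x + s.1 x = 0
        rw [hr x hx, hs x hx, add_zero]
      smul_mem' := fun c r hr x hx => by
        show c.1 (r.1 x) = 0
        rw [hr x hx, map_zero] }
  have hrad : ∀ r : S, r ^ 2 ∈ I → r ∈ I := by
    intro r hr
    rw [← hFfix r, ← Nat.add_sub_cancel' hN2, pow_add]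
    exact I.mul_mem_right _ hr
  have hσI : ∀ a r, r ∈ I → σ a r ∈ I := fun a r hr x hx => by
    have := hσapp a r x
    rw [hx a] at this
    rw [this, hr x hx, map_zero]
  let π := Ideal.Quotient.mk I
  have hπ : ∀ x y : S, π x = π y ↔ x - y ∈ I := fun x y => Ideal.Quotient.eq
  have hπσ : ∀ (a : 𝔄) {x y : S}, π x = π y → π (σ a x) = π (σ a y) := fun a x y h => by
    rw [hπ, ← map_sub]; exact hσI a _ ((hπ x y).1 h)
  have hπsq : ∀ z : S ⧸ I, z * z = 0 → z = 0 := by
    intro z hz
    obtain ⟨z, rfl⟩ := Ideal.Quotient.mk_surjective z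
    rw [← map_mul, Ideal.Quotient.eq_zero_iff_mem, ← sq] at hz
    exact Ideal.Quotient.eq_zero_iff_mem.2 (hrad z hz)
  have hπn : ∀ (n : ℕ), ¬ p ∣ n → ∀ z : S, (n : S) * z ∈ I → z ∈ I := fun n hn z hz x hx =>
    eq_zero_of_nsmul hexp hn (by
      have h1 := hz x hx
      rw [← nsmul_eq_mul] at h1
      exact h1)
  -- symmetric and antisymmetric operators
  let Sym : S → Prop := fun r => ∀ u v, f (r.1 u) v = f u (r.1 v)
  let Anti : S → Prop := fun r => ∀ u v, f (r.1 u) v = -f u (r.1 v)
  have hσ_conj : ∀ (a : 𝔄) (r : S) (u v : V), ∀ T : W → W,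
      (∀ u v, f (ρA a u) (ρA a v) = T (f u v)) →
      f ((σ a r).1 u) v = T (f (r.1 (ρA a⁻¹ u)) (ρA a⁻¹ v)) ∧
      f u ((σ a r).1 v) = T (f (ρA a⁻¹ u) (r.1 (ρA a⁻¹ v))) := by
    intro a r u v T hT
    have hu : ρA a (ρA a⁻¹ u) = u := by rw [← hmulA, mul_inv_cancel, hone]
    have hv : ρA a (ρA a⁻¹ v) = v := by rw [← hmulA, mul_inv_cancel, hone]
    rw [← hT, ← hT, ← hσapp, ← hσapp, hu, hv]
    exact ⟨rfl, rfl⟩
  have hσSym : ∀ a r, Sym r → Sym (σ a r) := by
    intro a r hr u v
    obtain ⟨T, hT⟩ := hfA a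
    obtain ⟨h1, h2⟩ := hσ_conj a r u v T hT
    rw [h1, h2, hr]
  have hσAnti : ∀ a r, Anti r → Anti (σ a r) := by
    intro a r hr u v
    obtain ⟨T, hT⟩ := hfA a
    obtain ⟨h1, -⟩ := hσ_conj a r u v T hT
    obtain ⟨-, h2⟩ := hσ_conj a r (-u) v T hT
    rw [h1, ← AddMonoidHom.neg_apply, ← map_neg, h2, hr, map_neg, map_neg, AddMonoidHom.neg_apply]
  have hanti2 : ∀ r s, Anti r → Anti s → Sym (r * s) := by
    intro r s hr hs u v
    have h1 : (r * s : S) = s * r := mul_comm r s
    show f (r.1 (s.1 u)) v = _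
    rw [h1, hr, hs, neg_neg]
    rfl
  have hsymsub : ∀ r s, Sym r → Sym s → Sym (r - s) := by
    intro r s hr hs u v
    show f (r.1 u - s.1 u) v = f u (r.1 v - s.1 v)
    rw [map_sub, AddMonoidHom.sub_apply, map_sub, hr, hs]
  have hsymmul : ∀ r s, Sym r → Sym s → Sym (r * s) := by
    intro r s hr hs u v
    have h1 : (r * s : S) = s * r := mul_comm r s
    show f (r.1 (s.1 u)) v = _
    rw [h1, hr, hs]
    rfl
  have hswap : ∀ q u v, f (ρK q u) v = f u (ρK q⁻¹ v) := by
    intro q u v
    have h1 := hfK q u (ρK q⁻¹ v)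
    have h2 : ρK q (ρK q⁻¹ v) = v := by
      show (ρK q * ρK q⁻¹) v = v
      rw [← map_mul, mul_inv_cancel, map_one]; rfl
    rwa [h2] at h1
  have hsymq : ∀ q, Sym (ι q + ι q⁻¹) := by
    intro q u v
    show f (ρK q u + ρK q⁻¹ u) v = f u (ρK q v + ρK q⁻¹ v)
    rw [map_add, AddMonoidHom.add_apply, map_add, hswap, hswap, inv_inv, add_comm]
  have hantiq : ∀ q, Anti (ι q - ι q⁻¹) := by
    intro q u v
    show f (ρK q u - ρK q⁻¹ u) v = -f u (ρK q v - ρK q⁻¹ v)
    rw [map_sub, AddMonoidHom.sub_apply, map_sub, hswap, hswap, inv_inv, neg_sub]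
  let δ : S → S := fun r => σ g r - r
  -- a symmetric operator and a fixed vector
  obtain ⟨r, hr, hr3⟩ : ∃ r, Sym r ∧ δ (δ (δ r)) ∉ I := by
    by_contra hcon
    push Not at hcon
    have hsd : ∀ r, Sym r → Sym (δ r) := fun r hr => hsymsub _ _ (hσSym g r hr) hr
    have step : ∀ r, Sym r → δ (δ r) ∈ I → δ r ∈ I := by
      intro r hr hd
      set t := δ r with ht
      have e1 : π (σ g r) = π r + π t := by rw [← map_add]; simp [t, δ]
      have et : π (σ g t) = π t := (hπ _ _).2 hd
      have e2 : π (σ g (σ g r)) = π r + 2 * π t := by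
        have : σ g r = r + t := by simp [t, δ]
        rw [this, map_add, map_add, e1, et]
        ring
      have e3 : π (σ g (σ g (σ g r))) = π r + 3 * π t := by
        have : π (σ g (σ g r)) = π (r + 2 * t) := by rw [e2, map_add, map_mul, map_ofNat]
        rw [hπσ g this, map_add, map_mul, map_ofNat, map_add, map_mul, map_ofNat, e1, et]
        ring
      have h3 := hcon (r * r * r) (hsymmul _ _ (hsymmul _ _ hr hr) hr)
      have h6 : ((6 : ℕ) : S) * (t * t * t) ∈ I := by
        rw [← Ideal.Quotient.eq_zero_iff_mem] at h3 ⊢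
        simp only [δ, map_sub, map_mul, map_natCast] at h3 ⊢
        rw [e1, e2, e3] at h3
        rw [← h3]
        push_cast
        ring
      have ht3 : t * t * t ∈ I := hπn 6 hp6 _ h6
      refine hrad t (hrad _ ?_)
      have : (t ^ 2) ^ 2 = t * (t * t * t) := by ring
      rw [this]
      exact I.mul_mem_left _ ht3
    have hsymfix : ∀ r, Sym r → δ r ∈ I := fun r hr =>
      step r hr (step (δ r) (hsd r hr) (hcon r hr))
    have hanti : ∀ r, Anti r → δ r ∈ I := by
      intro r hr
      have two : ∀ r, Anti r → π (σ g (σ g r)) = π r := by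
        intro r hr
        have h1 := (hπ _ _).2 (hsymfix _ (hanti2 _ _ hr (hσAnti g r hr)))
        have h2 := (hπ _ _).2 (hsymfix _ (hanti2 _ _ hr hr))
        rw [map_mul, map_mul, map_mul] at h1 h2
        set a := π r
        set b := π (σ g r)
        set c := π (σ g (σ g r))
        have hc : c * c = b * b := by
          have := (hπ _ _).2 (hsymfix _ (hanti2 _ _ (hσAnti g r hr) (hσAnti g r hr)))
          rwa [map_mul, map_mul, map_mul] at this
        have h0 : (c - a) * b = 0 := by
          rw [sub_mul, mul_comm c b, h1, sub_self]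
        have ha : (c - a) * a = 0 := hπsq _ (by
          calc (c - a) * a * ((c - a) * a) = (c - a) * (c - a) * (a * a) := by ring
            _ = ((c - a) * b) * ((c - a) * b) := by rw [← h2]; ring
            _ = 0 := by rw [h0, mul_zero])
        have hc' : (c - a) * c = 0 := hπsq _ (by
          calc (c - a) * c * ((c - a) * c) = (c - a) * (c - a) * (c * c) := by ring
            _ = ((c - a) * b) * ((c - a) * b) := by rw [hc]; ring
            _ = 0 := by rw [h0, mul_zero])
        exact sub_eq_zero.1 (hπsq _ (by rw [mul_sub, hc', ha, sub_self]))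
      have hev : ∀ m : ℕ, ∀ r, Anti r → π (σ (g ^ (2 * m)) r) = π r := by
        intro m
        induction m with
        | zero => intro r _; rw [mul_zero, pow_zero, hσ1]
        | succ m ih =>
          intro r hr
          rw [show 2 * (m + 1) = 2 * m + 1 + 1 by ring, pow_succ, pow_succ, mul_assoc, ← hσσ,
            ← hσσ, hπσ _ (two r hr), ih r hr]
      obtain ⟨k, hk⟩ := h𝔄 g
      obtain ⟨m, hm⟩ := (hpp.odd_of_ne_two (by omega)).pow (n := k)
      have h1 := hev m (σ g r) (hσAnti g r hr)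
      rw [hσσ, ← pow_succ, ← hm, hk, hσ1] at h1
      exact (hπ _ _).1 h1.symm
    -- the generators move fixed vectors nowhere
    have hq : ∀ q, δ (ι q) ∈ I := fun q => hπn 2 hp2 _ (by
      have : ((2 : ℕ) : S) * δ (ι q) = δ (ι q + ι q⁻¹) + δ (ι q - ι q⁻¹) := by
        simp only [δ, map_add, map_sub]
        push_cast
        ring
      rw [this]
      exact I.add_mem (hsymfix _ (hsymq q)) (hanti _ (hantiq q)))
    let D : Set V := {y | ∃ q u, y = (δ (ι q)).1 u}
    have hgen : ∀ (a : 𝔄), ∀ y ∈ AddSubgroup.closure D, ρA a y ∈ AddSubgroup.closure D := by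
      intro a y hy
      induction hy using AddSubgroup.closure_induction with
      | mem y hy =>
        obtain ⟨q, u, rfl⟩ := hy
        refine AddSubgroup.subset_closure ⟨act a q, ρA a u, ?_⟩
        rw [← hσapp]
        congr 2
        simp only [δ, map_sub, ← hσι, hσσ, mul_comm g a]
      | zero => rw [map_zero]; exact zero_mem _
      | add x y _ _ hx hy => rw [map_add]; exact add_mem hx hy
      | neg x _ hx => rw [map_neg]; exact neg_mem hx
    let E := AddSubgroup.closure D
    letI : MulAction 𝔄 E :=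
      { smul := fun a y => ⟨ρA a y.1, hgen a y.1 y.2⟩
        one_smul := fun y => Subtype.ext (hone y.1)
        mul_smul := fun a b y => Subtype.ext (hmulA a b y.1) }
    obtain ⟨q₀, hq₀⟩ := hnt
    obtain ⟨u₀, hu₀⟩ : ∃ u, (δ (ι q₀)).1 u ≠ 0 := by
      by_contra h
      push Not at h
      refine hq₀ (DFunLike.ext _ _ fun u => ?_)
      have := h u
      simp only [δ, hσι] at this
      exact sub_eq_zero.1 this
    have hEne : p ∣ Nat.card E := by
      let y : E := ⟨_, AddSubgroup.subset_closure ⟨q₀, u₀, rfl⟩⟩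
      have hy : addOrderOf y = p := addOrderOf_eq_prime (Subtype.ext (hexp _))
        fun h => hu₀ (congrArg Subtype.val h)
      exact hy ▸ addOrderOf_dvd_natCard y
    obtain ⟨x, hx, hx0⟩ := h𝔄.exists_fixed_point_of_prime_dvd_card_of_fixed_point E hEne
      (a := (0 : E)) (fun a => Subtype.ext (map_zero (ρA a)))
    have hxfix : ∀ a, ρA a x.1 = x.1 := fun a => congrArg Subtype.val (hx a)
    have hann : ∀ y ∈ E, ∃ m : S, m.1 y = 0 ∧ m.1 x.1 = x.1 := by
      intro y hy
      induction hy using AddSubgroup.closure_induction with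
      | mem y hy =>
        obtain ⟨q, u, rfl⟩ := hy
        set ε := δ (ι q) with hε
        refine ⟨1 - ε ^ (p ^ orderOf F - 1), ?_, ?_⟩
        · have : (1 - ε ^ (p ^ orderOf F - 1)) * ε = 0 := by
            rw [sub_mul, one_mul, ← pow_succ, Nat.sub_add_cancel (by omega), hFfix, sub_self]
          exact DFunLike.congr_fun (congrArg Subtype.val this) u
        · show x.1 - (ε ^ (p ^ orderOf F - 1)).1 x.1 = x.1
          rw [(show ε ^ (p ^ orderOf F - 1) ∈ I from I.pow_mem_of_mem (hq q) _ (by omega)) x.1 hxfix,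
            sub_zero]
      | zero => exact ⟨1, rfl, rfl⟩
      | add a b _ _ ha hb =>
        obtain ⟨m, hm, hm'⟩ := ha
        obtain ⟨n, hn, hn'⟩ := hb
        refine ⟨m * n, ?_, ?_⟩
        · rw [map_add]
          have hc : (m * n).1 a = 0 := by
            rw [mul_comm m n]; show n.1 (m.1 a) = 0
            rw [hm, map_zero]
          have hd : (m * n).1 b = 0 := by
            show m.1 (n.1 b) = 0
            rw [hn, map_zero]
          rw [hc, hd, add_zero]
        · show m.1 (n.1 x.1) = x.1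
          rw [hn', hm']
      | neg a _ ha =>
        obtain ⟨m, hm, hm'⟩ := ha
        exact ⟨m, by rw [map_neg, hm, neg_zero], hm'⟩
    obtain ⟨m, hm, hm'⟩ := hann x.1 x.2
    exact hx0 (Subtype.ext (hm.symm.trans hm'))
  obtain ⟨x, hx, hrx⟩ : ∃ x : V, (∀ a, ρA a x = x) ∧ (δ (δ (δ r))).1 x ≠ 0 := by
    by_contra h
    push Not at h
    exact hr3 h
  have hdiff : ∀ (a : 𝔄) (s : S), ρA a (s.1 x) - s.1 x = (σ a s - s).1 x := by
    intro a s
    rw [← hσapp, hx a]
    rfl
  refine ⟨r.1 x, fun a b => ?_, fun b => ?_⟩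
  · rw [hdiff, hdiff]
    have h1 := hsymsub _ _ (hσSym a r hr) hr
    have h2 := hsymsub _ _ (hσSym b r hr) hr
    rw [h1]
    set t := (σ a r - r) * (σ b r - r)
    have ht : Sym t := hsymmul _ _ h1 h2
    show f x (t.1 x) = 0
    refine hW _ ?_
    conv_lhs => arg 2; rw [← ht]
    have := halt (x + t.1 x)
    simp only [map_add, AddMonoidHom.add_apply, halt, zero_add, add_zero] at this
    rw [add_comm] at this
    exact this
  · by_contra hcon
    push Not at hcon
    obtain ⟨i, hi⟩ := hg b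
    have hσb : σ b r = σ (g ^ i) r := by
      have : ∀ (y : AddMonoid.End V) (hy : y ∈ S), σ b ⟨y, hy⟩ = σ (g ^ i) ⟨y, hy⟩ := by
        intro y hy
        induction hy using Subring.closure_induction with
        | mem y hy =>
          obtain ⟨q, rfl⟩ := hy
          exact (hσι b q).trans ((Subtype.ext (hi q)).trans (hσι (g ^ i) q).symm)
        | zero => exact (map_zero (σ b)).trans (map_zero (σ (g ^ i))).symm
        | one => exact (map_one (σ b)).trans (map_one (σ (g ^ i))).symm
        | add a c ha hc h1 h2 =>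
          exact (map_add (σ b) ⟨a, ha⟩ ⟨c, hc⟩).trans ((congrArg₂ (· + ·) h1 h2).trans
            (map_add (σ (g ^ i)) ⟨a, ha⟩ ⟨c, hc⟩).symm)
        | mul a c ha hc h1 h2 =>
          exact (map_mul (σ b) ⟨a, ha⟩ ⟨c, hc⟩).trans ((congrArg₂ (· * ·) h1 h2).trans
            (map_mul (σ (g ^ i)) ⟨a, ha⟩ ⟨c, hc⟩).symm)
        | neg a ha h1 =>
          exact (map_neg (σ b) ⟨a, ha⟩).trans ((congrArg Neg.neg h1).trans
            (map_neg (σ (g ^ i)) ⟨a, ha⟩).symm)
      exact this r.1 r.2
    set v := r.1 x with hv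
    have hbv : ρA b v = ρA (g ^ i) v := by
      rw [hv, ← hσapp, ← hσapp, hx, hx, hσb]
    let α : AddMonoid.End V := ρA g - 1
    have hα : ∀ y, α y = ρA g y - y := fun _ => rfl
    have hαg : ∀ (n : ℕ) y, α^[n] (ρA g y) = ρA g (α^[n] y) := by
      intro n
      induction n with
      | zero => intro y; rfl
      | succ n ih =>
        intro y
        rw [Function.iterate_succ_apply, Function.iterate_succ_apply, hα, ← map_sub, ← hα, ih]
    have hαgi : ∀ (n j : ℕ) y, α^[n] (ρA (g ^ j) y) = ρA (g ^ j) (α^[n] y) := by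
      intro n j
      induction j with
      | zero => intro y; rw [pow_zero, hone, hone]
      | succ j ih => intro y; rw [pow_succ', hmulA, hmulA, hαg, ih]
    have h3 : α^[3] v ≠ 0 := by
      intro h
      refine hrx ?_
      simp only [Function.iterate_succ_apply', Function.iterate_zero_apply] at h
      have e : ∀ s : S, α (s.1 x) = (δ s).1 x := fun s => by rw [hα]; exact hdiff g s
      rwa [hv, e, e, e] at h
    obtain ⟨k, hk⟩ := h𝔄 g
    have hnil : α^[p ^ k] v = 0 := by
      haveI : Nontrivial (AddMonoid.End V) := by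
        obtain ⟨q, hq⟩ := hnt
        exact ⟨⟨_, _, hq⟩⟩
      haveI : CharP (AddMonoid.End V) p := (CharP.charP_iff_prime_eq_zero hpp).mpr
        (congrArg Subtype.val hpzero)
      have h1 : (ρA g - 1) ^ p ^ k = (0 : AddMonoid.End V) := by
        rw [sub_pow_char_pow_of_commute p k (Commute.one_right _), ← map_pow, hk, map_one, one_pow,
          sub_self]
      have h2 : ∀ n, α^[n] v = ((ρA g - 1) ^ n : AddMonoid.End V) v := by
        intro n
        induction n with
        | zero => rfl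
        | succ n ih => rw [Function.iterate_succ_apply', ih, pow_succ']; rfl
      rw [h2, h1]
      rfl
    have hex : ∃ n, α^[n] v = 0 := ⟨_, hnil⟩
    set n := Nat.find hex with hn
    have hn0 : α^[n] v = 0 := Nat.find_spec hex
    have hn4 : 4 ≤ n := by
      by_contra hlt
      apply h3
      rw [show 3 = (3 - n) + n by omega, Function.iterate_add_apply, hn0,
        Function.iterate_fixed (map_zero α)]
    set u := α^[n - 3] v with hu
    have hu3 : α (α (α u)) = 0 := by
      rw [hu, ← Function.iterate_succ_apply' α, ← Function.iterate_succ_apply' α,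
        ← Function.iterate_succ_apply' α, show (n - 3).succ.succ.succ = n by omega, hn0]
    have hu2 : α (α u) ≠ 0 := by
      rw [hu, ← Function.iterate_succ_apply' α, ← Function.iterate_succ_apply' α,
        show (n - 3).succ.succ = n - 1 by omega]
      exact Nat.find_min hex (by omega)
    have hpow : ∀ j : ℕ, ∃ c : ℕ, 2 * c + j = j * j ∧
        ρA (g ^ j) u = u + j • α u + c • α (α u) := by
      intro j
      induction j with
      | zero => exact ⟨0, rfl, by simp [hone]⟩
      | succ j ih =>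
        obtain ⟨c, hc, he⟩ := ih
        refine ⟨c + j, by linarith, ?_⟩
        have hg' : ∀ y, ρA g y = y + α y := fun y => by rw [hα]; abel
        rw [pow_succ', hmulA, he, hg', map_add, map_add, map_nsmul, map_nsmul, hu3, smul_zero,
          add_zero, add_smul, add_smul, one_smul]
        abel
    obtain ⟨c, hc, he⟩ := hpow i
    have hw : α (ρA b v - v - 2 • (ρA g v - v)) = 0 := by
      rw [hα, hcon g, sub_self]
    have hw' : α^[n - 3] (ρA (g ^ i) v - v - 2 • α v) = 0 := by
      rw [show n - 3 = (n - 4) + 1 by omega, Function.iterate_add_apply, Function.iterate_one, hα v,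
        ← hbv, hw, Function.iterate_fixed (map_zero α)]
    rw [iterate_map_sub, iterate_map_sub, iterate_map_nsmul, hαgi, ← Function.iterate_succ_apply,
      Function.iterate_succ_apply' α, ← hu, he] at hw'
    have h1 : (i : ℤ) • α u + (c : ℤ) • α (α u) - (2 : ℤ) • α u = 0 := by
      rw [← hw']
      simp only [natCast_zsmul, two_zsmul, two_nsmul]
      abel
    have h2 : ((i : ℤ) - 2) • α (α u) = 0 := by
      have := congrArg α h1
      rw [map_zero, map_sub, map_add, map_zsmul, map_zsmul, map_zsmul, hu3, smul_zero, add_zero,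
        ← sub_smul] at this
      exact this
    have hdi := prime_dvd_of_zsmul_eq_zero hexp hu2 h2
    have h4 : ((i : ℤ) - 2) • α u = 0 := by
      obtain ⟨d, hd⟩ := hdi
      rw [hd, mul_comm, mul_smul, natCast_zsmul, hexp, smul_zero]
    have h5 : (c : ℤ) • α (α u) = 0 := by
      rw [← h1, ← sub_eq_zero]
      rw [sub_smul] at h4
      rw [← neg_eq_zero, ← h4]
      abel
    have hdc := prime_dvd_of_zsmul_eq_zero hexp hu2 h5
    have hcz : (2 : ℤ) * c + i = (i : ℤ) * i := by exact_mod_cast hc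
    have : (p : ℤ) ∣ (2 : ℤ) := by
      have hd := dvd_sub (hdc.mul_left 2) (hdi.mul_right ((i : ℤ) + 1))
      have e : (2 : ℤ) * c - ((i : ℤ) - 2) * (i + 1) = 2 := by linarith
      rwa [e] at hd
    exact hp2 (Int.natCast_dvd_natCast.1 this)

/-- An abelian `p`-group of operators, `p ≥ 5`, moving a commutative `p'`-group of isometries of an
alternating form: an isotropic span that is too big. -/
theorem exists_vector [Finite 𝔄] [Finite 𝔎] (hp : 5 ≤ p) (hexp : ∀ v : V, p • v = 0)
    (h𝔄 : IsPGroup p 𝔄) (hcompat : ∀ a q, ρA a * ρK q = ρK (act a q) * ρA a)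
    (hKcomm : ∀ q q' : 𝔎, Commute (ρK q) (ρK q')) (hKcop : ∀ q, ∃ m, ¬ p ∣ m ∧ ρK q ^ m = 1)
    (f : V →+ V →+ W) (halt : ∀ v, f v v = 0) (hW : ∀ w : W, w + w = 0 → w = 0)
    (hfK : ∀ q u v, f (ρK q u) (ρK q v) = f u v)
    (hfA : ∀ a, ∃ T : W → W, ∀ u v, f (ρA a u) (ρA a v) = T (f u v))
    (hnt : ∃ a q, ρK (act a q) ≠ ρK q) :
    ∃ v g, (∀ a b, f (ρA a v - v) (ρA b v - v) = 0) ∧
      ∀ b, ∃ a, ρA a (ρA b v - v - 2 • (ρA g v - v)) ≠ ρA b v - v - 2 • (ρA g v - v) := by
  classical
  obtain ⟨a₀, q₀, h₀⟩ := hnt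
  obtain ⟨K₁, ⟨hstab, hnt₁⟩, hmin⟩ := Set.exists_min_image
    {K : Subgroup 𝔎 | (∀ a, ∀ q ∈ K, act a q ∈ K) ∧ ∃ a, ∃ q ∈ K, ρK (act a q) ≠ ρK q}
    (fun K => Nat.card K) (Set.toFinite _)
    ⟨⊤, fun _ _ _ => Subgroup.mem_top _, a₀, q₀, Subgroup.mem_top _, h₀⟩
  let u : 𝔎 →* (AddMonoid.End V)ˣ := ρK.toHomUnits
  let M := K₁.map u
  have hu : ∀ q q', u q = u q' ↔ ρK q = ρK q' := fun q q' =>
    ⟨fun h => congrArg Units.val h, fun h => Units.ext h⟩
  letI hMc : CommGroup M :=
    { (inferInstance : Group M) with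
      mul_comm := by
        rintro ⟨_, q, -, rfl⟩ ⟨_, q', -, rfl⟩
        exact Subtype.ext (Units.ext (hKcomm q q')) }
  let c : 𝔄 → (AddMonoid.End V)ˣ → (AddMonoid.End V)ˣ :=
    fun a => MulAut.conj (ρA.toHomUnits a)
  have hc : ∀ a q, c a (u q) = u (act a q) := fun a q => Units.ext (by
    show ρA a * ρK q * ((ρA.toHomUnits a)⁻¹ : (AddMonoid.End V)ˣ).val = ρK (act a q)
    rw [← map_inv]
    exact conj_eq hcompat a q)
  have hcM : ∀ a, ∀ z ∈ M, c a z ∈ M := by
    rintro a _ ⟨q, hq, rfl⟩
    exact ⟨act a q, hstab a q hq, (hc a q).symm⟩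
  let Γ : 𝔄 →* MulAut M :=
    { toFun := fun a =>
        { toFun := fun z => ⟨c a z.1, hcM a _ z.2⟩
          invFun := fun z => ⟨c a⁻¹ z.1, hcM a⁻¹ _ z.2⟩
          left_inv := fun z => Subtype.ext (by simp [c, mul_assoc])
          right_inv := fun z => Subtype.ext (by simp [c, mul_assoc])
          map_mul' := fun y z => Subtype.ext (map_mul (MulAut.conj _) _ _) }
      map_one' := MulEquiv.ext fun z => Subtype.ext (by
        show c 1 z.1 = z.1
        simp [c])
      map_mul' := fun a b => MulEquiv.ext fun z => Subtype.ext (by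
        show c (a * b) z.1 = c a (c b z.1)
        simp [c, mul_assoc]) }
  have hΓ : ∀ a q (hq : q ∈ K₁), (Γ a ⟨u q, q, hq, rfl⟩ : (AddMonoid.End V)ˣ) = u (act a q) :=
    fun a q _ => hc a q
  let X := Γ.range
  letI hXc : CommGroup X :=
    { (inferInstance : Group X) with
      mul_comm := by
        rintro ⟨_, a, rfl⟩ ⟨_, b, rfl⟩
        refine Subtype.ext ?_
        show Γ a * Γ b = Γ b * Γ a
        rw [← map_mul, ← map_mul, mul_comm] }
  haveI : Finite X := Finite.of_surjective _ Γ.rangeRestrict_surjective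
  -- the group of operators induced is cyclic
  have hcyc : IsCyclic X := by
    by_contra h
    obtain ⟨q, hq, x, y, hx, hy, hx1, hyx⟩ := Coprime.exists_independent_of_not_isCyclic h
    obtain rfl : p = q := by
      obtain ⟨k, hk⟩ : ∃ k : ℕ, x ^ p ^ k = 1 := (h𝔄.of_surjective _ Γ.rangeRestrict_surjective) x
      have h1 : orderOf x = q := haveI := Fact.mk hq; orderOf_eq_prime hx hx1
      have h2 : q ∣ p ^ k := h1 ▸ orderOf_dvd_of_pow_eq_one hk
      exact ((Nat.prime_dvd_prime_iff_eq hq Fact.out).1 (hq.dvd_of_dvd_pow h2)).symm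
    let e : ZMod p × ZMod p → X := fun w => x ^ w.1.val * y ^ w.2.val
    have hpow : ∀ (z : X), z ^ p = 1 → ∀ a b : ZMod p, z ^ (a + b).val = z ^ a.val * z ^ b.val := by
      intro z hz a b
      rw [← pow_add, ZMod.val_add, ← pow_eq_pow_mod _ hz]
    have he : ∀ v w, e v * e w = e (v + w) := by
      intro v w
      simp only [e, Prod.fst_add, Prod.snd_add, hpow x hx, hpow y hy]
      ac_rfl
    have he1 : ∀ w, w ≠ 0 → e w ≠ 1 := by
      intro w hw h1
      have h2 : w.2.val = 0 := by
        by_contra h2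
        have hmem : y ^ w.2.val ∈ Subgroup.zpowers x := by
          rw [eq_inv_of_mul_eq_one_right h1]
          exact inv_mem (pow_mem (Subgroup.mem_zpowers x) _)
        have hcop : Nat.Coprime w.2.val (orderOf y) := by
          refine Nat.Coprime.coprime_dvd_right (orderOf_dvd_of_pow_eq_one hy) (Nat.coprime_comm.1 ?_)
          exact (Fact.out : p.Prime).coprime_iff_not_dvd.2
            (Nat.not_dvd_of_pos_of_lt (Nat.pos_of_ne_zero h2) (ZMod.val_lt _))
        obtain ⟨k, hk⟩ := exists_pow_eq_self_of_coprime hcop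
        exact hyx (hk ▸ pow_mem hmem k)
      have h3 : w.1.val = 0 := by
        by_contra h3
        simp only [e, h2, pow_zero, mul_one] at h1
        have h5 := orderOf_dvd_of_pow_eq_one h1
        rw [orderOf_eq_prime hx hx1] at h5
        exact Nat.not_dvd_of_pos_of_lt (Nat.pos_of_ne_zero h3) (ZMod.val_lt _) h5
      exact hw (Prod.ext ((ZMod.val_eq_zero _).1 h3) ((ZMod.val_eq_zero _).1 h2))
    let fix : Subgroup M :=
      { carrier := {z | ∀ a, Γ a z = z}
        one_mem' := fun a => map_one (Γ a)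
        mul_mem' := fun {y z} hy hz a => by rw [map_mul, hy a, hz a]
        inv_mem' := fun {y} hy a => by rw [map_inv, hy a] }
    obtain ⟨a₁, q₁, hq₁, hne⟩ := hnt₁
    have hall : ∀ z : M, z ∈ fix := fun z => by
      refine Coprime.mem_of_fixed_mem (fun w => ((e w : MulAut M) : M →* M))
        (fun z => by simp [e]) (fun v w z => ?_) fix (fun w hw z hz => ?_) z ?_
      · show (e v : MulAut M) ((e w : MulAut M) z) = _
        rw [← he]; rfl
      · obtain ⟨d, hd⟩ : ∃ d, Γ d = (e w : MulAut M) := (e w).2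
        let K₂ : Subgroup 𝔎 :=
          { carrier := {q | q ∈ K₁ ∧ ρK (act d q) = ρK q}
            one_mem' := ⟨K₁.one_mem, by rw [map_one]⟩
            mul_mem' := fun {r s} hr hs => ⟨K₁.mul_mem hr.1 hs.1, by
              rw [map_mul, map_mul, map_mul, hr.2, hs.2]⟩
            inv_mem' := fun {r} hr => ⟨K₁.inv_mem hr.1, by
              rw [map_inv]
              exact congrArg Units.val (show u (act d r)⁻¹ = u r⁻¹ by
                rw [map_inv, map_inv, (hu _ _).2 hr.2])⟩ }
        have hne₂ : K₂ ≠ K₁ := by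
          intro h
          refine he1 w hw (Subtype.ext (MulEquiv.ext ?_))
          rintro ⟨_, r, hr, rfl⟩
          rw [← hd]
          refine Subtype.ext ((hΓ d r hr).trans ((hu _ _).2 ?_))
          exact (show r ∈ K₂ from h.symm ▸ hr).2
        intro a
        obtain ⟨_, r, hr, rfl⟩ := z
        have hr2 : r ∈ K₂ := ⟨hr, (hu _ _).1 (by
          rw [← hΓ d r hr, hd]; exact congrArg Subtype.val hz)⟩
        by_contra hmv
        refine hne₂ (Subgroup.eq_of_le_of_card_ge (fun s hs => hs.1) (hmin K₂ ⟨?_, a, r, hr2, ?_⟩))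
        · intro b s hs
          refine ⟨hstab b s hs.1, ?_⟩
          have e1 : act d (act b s) = act b (act d s) := by
            rw [← MulAut.mul_apply, ← MulAut.mul_apply, ← map_mul, ← map_mul, mul_comm]
          rw [e1, ← conj_eq hcompat b (act d s), hs.2, conj_eq hcompat b s]
        · exact fun h => hmv (Subtype.ext ((hΓ a r hr).trans ((hu _ _).2 h)))
      · obtain ⟨_, r, -, rfl⟩ := z
        obtain ⟨m, hm, hrm⟩ := hKcop r
        refine Nat.Coprime.coprime_dvd_left (orderOf_dvd_of_pow_eq_one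
          (Subtype.ext (Units.ext ?_))) ((Fact.out : p.Prime).coprime_iff_not_dvd.2 hm).symm
        simpa [u] using hrm
    exact hne ((hu _ _).1 ((hΓ a₁ q₁ hq₁).symm.trans
      (congrArg Subtype.val (hall ⟨u q₁, q₁, hq₁, rfl⟩ a₁))))
  obtain ⟨⟨_, g, rfl⟩, hg⟩ := IsCyclic.exists_monoid_generator (α := X)
  have hgen : ∀ b, ∃ i : ℕ, ∀ q ∈ K₁, ρK (act b q) = ρK (act (g ^ i) q) := by
    intro b
    obtain ⟨i, hi⟩ := Submonoid.mem_powers_iff _ _ |>.1 (hg ⟨Γ b, b, rfl⟩)
    refine ⟨i, fun q hq => (hu _ _).1 ?_⟩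
    rw [← hΓ b q hq, ← hΓ (g ^ i) q hq, map_pow]
    exact (congrArg (fun z : X => ((z : MulAut M) ⟨u q, q, hq, rfl⟩ : (AddMonoid.End V)ˣ)) hi).symm
  let act₁ : 𝔄 →* MulAut K₁ :=
    { toFun := fun a =>
        { toFun := fun q => ⟨act a q, hstab a _ q.2⟩
          invFun := fun q => ⟨act a⁻¹ q, hstab a⁻¹ _ q.2⟩
          left_inv := fun q => Subtype.ext (by simp)
          right_inv := fun q => Subtype.ext (by simp)
          map_mul' := fun y z => Subtype.ext (map_mul (act a) _ _) }
      map_one' := MulEquiv.ext fun q => Subtype.ext (by simp)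
      map_mul' := fun a b => MulEquiv.ext fun q => Subtype.ext (by simp) }
  have hntg : ∃ q : K₁, ρK (act g q) ≠ ρK q := by
    by_contra h
    push Not at h
    obtain ⟨a, q, hq, hne⟩ := hnt₁
    obtain ⟨i, hi⟩ := hgen a
    refine hne ((hi q hq).trans ?_)
    suffices key : ∀ j : ℕ, ∀ r ∈ K₁, ρK (act (g ^ j) r) = ρK r from key i q hq
    intro j
    induction j with
    | zero => intro r _; rw [pow_zero, map_one, MulAut.one_apply]
    | succ j ih =>
      intro r hr
      rw [pow_succ', map_mul, MulAut.mul_apply, h ⟨_, hstab _ r hr⟩, ih r hr]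
  obtain ⟨v, hv⟩ := exists_vector_of_cyclic (ρK := ρK.comp K₁.subtype) (act := act₁) hp hexp h𝔄
    (fun a q => hcompat a q) (fun q q' => hKcomm q q') (fun q => hKcop q) f halt hW
    (fun q => hfK q) hfA g (fun b => (hgen b).imp fun i hi q => hi q.1 q.2) hntg
  exact ⟨v, g, hv⟩

end CfsgLib.LocalEvenBasic.IsotropicSpan
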