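import Cfsg.Agent.LocalEvenBasic.IsotropicSpan
import Cfsg.Agent.LocalEvenBasic.DecidingSubgroup
import Cfsg.Agent.ConjFunctor.PComplementFunctor
import Cfsg.Agent.PLocal.Thompson

/-!
# Abelian subgroups of largest order lie in `O_p` (`p ≥ 5`)

In a group with self-centralising `O_p = Q`, abelian normal `p`-complement over `Q` and maximal
Sylow subgroup, an abelian subgroup of largest order in a Sylow subgroup lies in `Q`: otherwise
`[v, A] C_A([v, A])` is abelian and larger for a suitable `v` in a chief factor.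
-/

set_option autoImplicit false

namespace CfsgLib.LocalEvenBasic

open Subgroup
open Cfsg (HasNormalPComplement pResidual pCore thompsonSubgroupA thompsonSubgroupAOf)
open scoped commutatorElement

universe u

variable {p : ℕ} [Fact p.Prime]

/-- An element of order prime to `p` moving `b` by an element of a `p`-group that it centralises
fixes `b`. -/
theorem conj_eq_self_of_coprime {G : Type*} [Group G] {x b : G} (hx : (orderOf x).Coprime p)
    (hcx : x * ⁅x, b⁆ = ⁅x, b⁆ * x) (hc : ∃ k : ℕ, ⁅x, b⁆ ^ p ^ k = 1) : x * b * x⁻¹ = b := by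
  set c := ⁅x, b⁆ with hcdef
  have hstep : ∀ n : ℕ, x ^ n * b * (x ^ n)⁻¹ = c ^ n * b := by
    intro n
    induction n with
    | zero => simp
    | succ n ih =>
      have h1 : x * c ^ n = c ^ n * x := (Commute.pow_right hcx n).eq
      calc x ^ (n + 1) * b * (x ^ (n + 1))⁻¹ = x * (x ^ n * b * (x ^ n)⁻¹) * x⁻¹ := by
            rw [pow_succ']; group
        _ = (x * c ^ n) * b * x⁻¹ := by rw [ih]; group
        _ = c ^ n * (x * b * x⁻¹ * b⁻¹) * b := by rw [h1]; group
        _ = c ^ (n + 1) * b := by rw [← commutatorElement_def, ← hcdef, pow_succ]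
  have h1 := hstep (orderOf x)
  rw [pow_orderOf_eq_one, one_mul, inv_one, mul_one] at h1
  obtain ⟨k, hk⟩ := hc
  have hcn : c ^ orderOf x = 1 := mul_right_cancel (h1.symm.trans (one_mul b).symm)
  have hc1 : c = 1 := orderOf_eq_one_iff.1 (Nat.eq_one_of_dvd_coprimes
    (Nat.Coprime.pow_right k hx) (orderOf_dvd_of_pow_eq_one hcn) (orderOf_dvd_of_pow_eq_one hk))
  rw [hcdef, commutatorElement_def, mul_inv_eq_one] at hc1
  exact hc1

/-- A normal subgroup of a finite `p`-group is not its own commutator with the group. -/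
theorem eq_bot_of_le_commutator {G : Type*} [Group G] [Finite G] {B Q : Subgroup G}
    (hQ : IsPGroup p Q) (hBQ : B ≤ Q) (h : B ≤ ⁅B, Q⁆) : B = ⊥ := by
  haveI := hQ.isNilpotent
  have key : ∀ n, B ≤ (Subgroup.lowerCentralSeries (⊤ : Subgroup Q) n).map Q.subtype := by
    intro n
    induction n with
    | zero =>
      rw [Subgroup.lowerCentralSeries_zero, ← MonoidHom.range_eq_map, range_subtype]
      exact hBQ
    | succ n ih =>
      refine h.trans ((commutator_mono ih le_rfl).trans ?_)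
      rw [Subgroup.lowerCentralSeries_succ, map_commutator, ← MonoidHom.range_eq_map, range_subtype]
  obtain ⟨n, hn⟩ := Subgroup.nilpotent_iff_lowerCentralSeries.1 (hQ.isNilpotent)
  exact le_bot_iff.1 ((key n).trans (by rw [hn, Subgroup.map_bot]))

open scoped IsMulCommutative in
/-- The conjugation action on a normal abelian subgroup, as additive endomorphisms. -/
def conjEndHom {H : Type*} [Group H] (N : Subgroup H) [N.Normal] [IsMulCommutative N] :
    H →* AddMonoid.End (Additive N) where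
  toFun x := ((MulAut.conjNormal x : N ≃* N).toMonoidHom).toAdditive
  map_one' := DFunLike.ext _ _ fun a => by simp; rfl
  map_mul' x y := DFunLike.ext _ _ fun a => by simp; rfl

section
open scoped IsMulCommutative
variable {G : Type u} [Group G] [Finite G]

/-- An abelian subgroup of largest order in a maximal Sylow subgroup lies in `O_p`. -/
theorem maxAbelian_le_pCore (hp : 5 ≤ p) (S : Sylow p G)
    (hC : centralizer (pCore p G : Set G) ≤ pCore p G)
    (hX : HasNormalPComplement p (G ⧸ pCore p G))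
    (hab : IsMulCommutative (pResidual p (G ⧸ pCore p G))) (hS : IsCoatom (S : Subgroup G))
    {A : Subgroup G} (hAS : A ≤ (S : Subgroup G)) [hA : IsMulCommutative A]
    (hmax : ∀ D : Subgroup G, D ≤ (S : Subgroup G) → IsMulCommutative D →
      Nat.card D ≤ Nat.card A) : A ≤ pCore p G := by
  classical
  have hpp : p.Prime := Fact.out
  have hQp := PLocal.isPGroup_pCore p G
  set Q := pCore p G with hQ
  have hQS : Q ≤ (S : Subgroup G) := PLocal.pCore_le_sylow S
  set f := QuotientGroup.mk' Q with hf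
  set L := pResidual p (G ⧸ Q) with hL
  set K := pResidual p G with hK
  have hLp : ¬ p ∣ Nat.card L := Transfer.hasNormalPComplement_iff.1 hX
  have hKgen : ∀ N : Subgroup G, (∀ x : G, (orderOf x).Coprime p → x ∈ N) → K ≤ N := fun N h =>
    (closure_le _).2 fun x hx => h x hx
  have hKL : K ≤ L.comap f := hKgen _ fun x hx =>
    Transfer.mem_pResidual_of_coprime (hx.coprime_dvd_left (orderOf_map_dvd f x))
  by_contra hAQ
  -- some element of `A` moves `K` modulo `Q`
  obtain ⟨a₀, k₀, hk₀, hne₀⟩ : ∃ a : A, ∃ k ∈ K, (a : G) * k * (a : G)⁻¹ * k⁻¹ ∉ Q := by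
    by_contra h
    push Not at h
    let SX : Sylow p (G ⧸ Q) := S.mapSurjective (QuotientGroup.mk'_surjective Q)
    set C := centralizer (L : Set (G ⧸ Q)) with hC'
    have hsup : (SX : Subgroup (G ⧸ Q)) ⊔ L = ⊤ := Transfer.sylow_sup_pResidual SX
    haveI hn : ((SX : Subgroup (G ⧸ Q)) ⊓ C).Normal := by
      rw [← normalizer_eq_top_iff, eq_top_iff, ← hsup, sup_le_iff]
      constructor
      · intro s hs
        refine mem_normalizer_fintype fun y hy => ⟨?_, ?_⟩
        · exact (SX : Subgroup (G ⧸ Q)).mul_mem ((SX : Subgroup (G ⧸ Q)).mul_mem hs hy.1)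
            ((SX : Subgroup (G ⧸ Q)).inv_mem hs)
        · exact (inferInstance : C.Normal).conj_mem y hy.2 s
      · intro l hl
        refine mem_normalizer_fintype fun y hy => ?_
        rw [show l * y * l⁻¹ = y by rw [mem_centralizer_iff.1 hy.2 l hl, mul_inv_cancel_right]]
        exact hy
    have hbot : (SX : Subgroup (G ⧸ Q)) ⊓ C = ⊥ := le_bot_iff.1
      (PLocal.pCore_quotient_pCore_eq_bot p G ▸ PLocal.le_pCore (SX.isPGroup'.to_le inf_le_left))
    refine hAQ fun a ha => ?_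
    have hfa : f a ∈ (SX : Subgroup (G ⧸ Q)) ⊓ C := by
      refine ⟨?_, ?_⟩
      · show f a ∈ (SX : Subgroup (G ⧸ Q))
        rw [Sylow.coe_mapSurjective]
        exact mem_map_of_mem f (hAS ha)
      · intro l hl
        suffices hle : L ≤ centralizer ({f a} : Set (G ⧸ Q)) from
          ((mem_centralizer_iff.1 (hle hl)) (f a) rfl).symm
        refine (closure_le _).2 fun x hx => ?_
        obtain ⟨x₁, rfl⟩ := QuotientGroup.mk'_surjective Q x
        obtain ⟨y, hy, -, hxy⟩ := exists_lift_coprime (p := p) f x₁ hx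
        refine zpowers_le.2 ?_ hxy
        rw [mem_centralizer_iff]
        rintro _ rfl
        have h1 := h ⟨a, ha⟩ y (Transfer.mem_pResidual_of_coprime hy)
        have h2 : f (a * y * a⁻¹ * y⁻¹) = 1 := (QuotientGroup.eq_one_iff _).2 h1
        simp only [map_mul, map_inv] at h2
        rw [mul_inv_eq_one, mul_inv_eq_iff_eq_mul] at h2
        exact h2
    rw [hbot, mem_bot] at hfa
    exact (QuotientGroup.eq_one_iff a).1 hfa
  have hKQ : ∀ {N : Subgroup G}, IsPGroup p N → N.Normal → N ≤ Q := fun hN hn =>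
    haveI := hn; PLocal.le_pCore hN
  -- the chief factor
  obtain ⟨B, ⟨hBn, hBQ, hBK⟩, hBmin⟩ := Set.exists_min_image
    {B : Subgroup G | B.Normal ∧ B ≤ Q ∧ ¬ K ≤ centralizer (B : Set G)}
    (fun B => Nat.card B) (Set.toFinite _) ⟨Q, inferInstance, le_rfl, fun h =>
      hne₀ (mul_mem ((inferInstance : Q.Normal).conj_mem k₀ (hC (h hk₀)) a₀)
        (inv_mem (hC (h hk₀))))⟩
  haveI := hBn
  have hBp : IsPGroup p B := hQp.to_le hBQ
  set B₁ := B ⊓ centralizer (K : Set G) with hB₁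
  haveI hB₁n : B₁.Normal := normal_inf_normal _ _
  have hbelow : ∀ N : Subgroup G, N.Normal → N ≤ B → N ≠ B → N ≤ B₁ := by
    intro N hN hNB hne
    refine le_inf hNB (le_centralizer_iff.1 ?_)
    by_contra h
    exact hne (eq_of_le_of_card_ge hNB (hBmin N ⟨hN, hNB.trans hBQ, h⟩))
  -- elements of order prime to `p` trivial on `B / B₁` are trivial on `B`
  have hlift : ∀ x : G, (orderOf x).Coprime p → (∀ b ∈ B, ⁅x, b⁆ ∈ B₁) →
      x ∈ centralizer (B : Set G) := by
    intro x hx h b hb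
    have hxK : x ∈ K := Transfer.mem_pResidual_of_coprime hx
    have h1 := h b hb
    obtain ⟨k, hk⟩ := hBp ⟨_, h1.1⟩
    have h2 : x * ⁅x, b⁆ = ⁅x, b⁆ * x := mem_centralizer_iff.1 h1.2 x hxK
    exact (mul_inv_eq_iff_eq_mul.1
      (conj_eq_self_of_coprime hx h2 ⟨k, congrArg Subtype.val hk⟩)).symm
  have hB₁ne : B₁ ≠ B := fun h => hBK (le_centralizer_iff.1 (h ▸ inf_le_right))
  have hBQ₁ : ⁅B, Q⁆ ≤ B₁ := by
    refine hbelow _ inferInstance (commutator_le_left B Q) fun h => hBK ?_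
    rw [eq_bot_of_le_commutator hQp hBQ h.ge, coe_bot]
    intro x _ y hy
    rw [Set.mem_singleton_iff.1 hy, one_mul, mul_one]
  have hBB : ⁅B, B⁆ ≤ B₁ := (commutator_mono le_rfl hBQ).trans hBQ₁
  have hKB : ⁅K, B⁆ = B := by
    by_contra hne
    have h1 := hbelow _ inferInstance (commutator_le_right K B) hne
    exact hBK (hKgen _ fun x hx => hlift x hx fun b hb =>
      h1 (commutator_mem_commutator (Transfer.mem_pResidual_of_coprime hx) hb))
  have hcen : B₁ ≤ centralizer (B : Set G) := by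
    have hK₁ : ⁅B₁, K⁆ = ⊥ := commutator_eq_bot_iff_le_centralizer.2 inf_le_right
    have h1 : ⁅⁅B, B₁⁆, K⁆ = ⊥ := commutator_eq_bot_iff_le_centralizer.2
      (((commutator_mono le_rfl inf_le_left).trans hBB).trans inf_le_right)
    have h2 := commutator_commutator_eq_bot_of_rotate (H₁ := K) (H₂ := B) (H₃ := B₁) h1
      (by rw [hK₁, commutator_bot_left])
    rw [hKB] at h2
    exact le_centralizer_iff.1 (commutator_eq_bot_iff_le_centralizer.1 h2)
  haveI hB₁c : IsMulCommutative B₁ :=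
    le_centralizer_iff_isMulCommutative.1 (hcen.trans (centralizer_le inf_le_left))
  -- `V = B / B₁`
  set π := QuotientGroup.mk' B₁ with hπ
  set V₀ := B.map π with hV₀
  haveI hV₀n : V₀.Normal := hBn.map π (QuotientGroup.mk'_surjective _)
  haveI hV₀c : IsMulCommutative V₀ := by
    refine le_centralizer_iff_isMulCommutative.1 (commutator_eq_bot_iff_le_centralizer.1 ?_)
    rw [hV₀, ← map_commutator, Subgroup.map_eq_bot_iff, QuotientGroup.ker_mk']
    exact hBB
  have hexp : ∀ v : V₀, v ^ p = 1 := by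
    let φ : V₀ →* V₀ := powMonoidHom p
    set R := φ.range.map V₀.subtype with hR
    haveI hRn : R.Normal := ⟨by
      rintro _ ⟨_, ⟨v, rfl⟩, rfl⟩ x
      exact ⟨_, ⟨⟨_, hV₀n.conj_mem _ v.2 x⟩, rfl⟩, conj_pow⟩⟩
    have hle : R.comap π ⊓ B ≤ B₁ := hbelow _ inferInstance inf_le_right fun h => by
      have hsurj : Function.Surjective φ := by
        rintro ⟨_, b, hb, rfl⟩
        obtain ⟨_, ⟨v, rfl⟩, hv⟩ := (show b ∈ R.comap π ⊓ B from h.symm ▸ hb).1
        exact ⟨v, Subtype.ext hv⟩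
      have hinj := Finite.injective_iff_surjective.2 hsurj
      refine hB₁ne (le_antisymm inf_le_left fun b hb => ?_)
      have hbp : IsPGroup p V₀ := hBp.map π
      obtain ⟨k, hk⟩ := hbp ⟨π b, mem_map_of_mem π hb⟩
      have : ∀ (k : ℕ) (v : V₀), v ^ p ^ k = 1 → v = 1 := by
        intro k
        induction k with
        | zero => intro v hv; simpa using hv
        | succ k ih =>
          intro v hv
          refine hinj ((?_ : φ v = 1).trans (map_one φ).symm)
          exact ih _ (by rw [powMonoidHom_apply, ← pow_mul, ← pow_succ']; exact hv)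
      exact (QuotientGroup.eq_one_iff b).1 (congrArg Subtype.val (this k _ hk))
    rintro ⟨_, b, hb, rfl⟩
    refine Subtype.ext ?_
    show π b ^ p = 1
    rw [← map_pow]
    refine (QuotientGroup.eq_one_iff _).2 (hle ⟨?_, pow_mem hb p⟩)
    exact ⟨_, ⟨⟨π b, mem_map_of_mem π hb⟩, rfl⟩, by rw [powMonoidHom_apply]; exact (map_pow π b p).symm⟩
  let ρ : G →* AddMonoid.End (Additive V₀) := (conjEndHom V₀).comp π
  have hρval : ∀ (x : G) (v : Additive V₀), ((ρ x v).toMul : G ⧸ B₁) = π x * v.toMul * (π x)⁻¹ :=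
    fun _ _ => rfl
  have hρone : ∀ x : G, ρ x = 1 ↔ ∀ b ∈ B, ⁅x, b⁆ ∈ B₁ := by
    intro x
    constructor
    · intro h b hb
      have h1 := hρval x (Additive.ofMul ⟨π b, mem_map_of_mem π hb⟩)
      rw [h] at h1
      have h2 : π b = π x * π b * (π x)⁻¹ := h1
      refine (QuotientGroup.eq_one_iff _).1 ?_
      show π ⁅x, b⁆ = 1
      rw [map_commutatorElement, commutatorElement_def, ← h2, mul_inv_cancel]
    · intro h
      refine DFunLike.ext _ _ fun v => Additive.toMul.injective (Subtype.ext ?_)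
      obtain ⟨b, hb, hbv⟩ := v.toMul.2
      rw [hρval, ← hbv]
      have h2 : π ⁅x, b⁆ = 1 := (QuotientGroup.eq_one_iff _).2 (h b hb)
      rw [map_commutatorElement, commutatorElement_def, mul_inv_eq_one] at h2
      rw [h2]
      exact hbv
  have hρQ : ∀ x ∈ Q, ρ x = 1 := fun x hx => (hρone x).2 fun b hb =>
    hBQ₁ (commutator_comm B Q ▸ commutator_mem_commutator hx hb)
  -- faithfulness
  have hfaith : ∀ x ∈ K, ρ x = 1 → x ∈ Q := by
    intro x hxK hx
    set K₀ := K ⊓ ρ.ker with hK₀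
    haveI : K₀.Normal := normal_inf_normal _ _
    have hle : K₀ ≤ Q := by
      by_cases htop : K₀ ⊔ (S : Subgroup G) = ⊤
      · exfalso
        refine hBK (hKgen _ fun y hy => hlift y hy ((hρone y).1 ?_))
        suffices y ∈ K₀ from MonoidHom.mem_ker.1 this.2
        obtain ⟨c, hc, s, hs, hcs⟩ := mem_sup_of_normal_left.1 (htop ▸ mem_top y)
        refine (QuotientGroup.eq_one_iff y).1 (orderOf_eq_one_iff.1 ?_)
        obtain ⟨j, hj⟩ := S.isPGroup' ⟨s, hs⟩
        have hys : (QuotientGroup.mk' K₀) y = QuotientGroup.mk' K₀ s := by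
          rw [← hcs, map_mul, QuotientGroup.mk'_apply _ c, (QuotientGroup.eq_one_iff c).2 hc, one_mul]
        refine Nat.eq_one_of_dvd_coprimes (Nat.Coprime.pow_right j hy)
          (orderOf_map_dvd (QuotientGroup.mk' K₀) y) (orderOf_dvd_of_pow_eq_one ?_)
        show (QuotientGroup.mk' K₀ y) ^ p ^ j = 1
        rw [hys, ← map_pow, show s ^ p ^ j = 1 from congrArg Subtype.val hj, map_one]
      · have h1 : K₀ ≤ (S : Subgroup G) :=
          (le_sup_left).trans ((hS.le_iff.1 le_sup_right).resolve_left htop).le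
        exact hKQ (S.isPGroup'.to_le h1) inferInstance
    exact hle ⟨hxK, MonoidHom.mem_ker.2 hx⟩
  have hKcomm : ∀ q q' : K, Commute (ρ q) (ρ q') := by
    intro q q'
    have h1 : f ⁅(q : G), (q' : G)⁆ = 1 := by
      rw [map_commutatorElement, commutatorElement_eq_one_iff_mul_comm]
      exact congrArg Subtype.val (hab.is_comm.comm (⟨f q, hKL q.2⟩ : L) ⟨f q', hKL q'.2⟩)
    have h2 := hρQ _ ((QuotientGroup.eq_one_iff _).1 h1)
    have h3 : (q : G) * q' = ⁅(q : G), (q' : G)⁆ * ((q' : G) * q) := by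
      rw [commutatorElement_def]; group
    show ρ q * ρ q' = ρ q' * ρ q
    rw [← map_mul, h3, map_mul, h2, one_mul, map_mul]
  have hKcop : ∀ q : K, ∃ m, ¬ p ∣ m ∧ ρ q ^ m = 1 := by
    refine fun q => ⟨Nat.card L, hLp, ?_⟩
    rw [← map_pow]
    refine hρQ _ ((QuotientGroup.eq_one_iff _).1 ?_)
    show f ((q : G) ^ Nat.card L) = 1
    rw [map_pow]
    exact congrArg Subtype.val (pow_card_eq_one' (x := (⟨f q, hKL q.2⟩ : L)))
  -- the form
  have hlv : ∀ v : Additive V₀, ∃ b ∈ B, π b = (v.toMul : G ⧸ B₁) := fun v => v.toMul.2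
  choose ℓ hℓB hℓ using hlv
  have hmem : ∀ b ∈ B, ∀ c ∈ B, ⁅b, c⁆ ∈ B₁ := fun b hb c hc =>
    hBB (commutator_mem_commutator hb hc)
  have hcz : ∀ z ∈ B₁, ∀ b ∈ B, b * z = z * b := fun z hz b hb =>
    mem_centralizer_iff.1 (hcen hz) b hb
  have haddL : ∀ b ∈ B, ∀ b' ∈ B, ∀ c ∈ B, ⁅b * b', c⁆ = ⁅b, c⁆ * ⁅b', c⁆ := by
    intro b hb b' hb' c hc
    rw [show ⁅b * b', c⁆ = b * ⁅b', c⁆ * b⁻¹ * ⁅b, c⁆ by simp only [commutatorElement_def]; group,
      hcz _ (hmem b' hb' c hc) b hb, mul_inv_cancel_right]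
    exact hcz _ (hmem b hb c hc) _ (hmem b' hb' c hc).1
  have haddR : ∀ b ∈ B, ∀ c ∈ B, ∀ c' ∈ B, ⁅b, c * c'⁆ = ⁅b, c⁆ * ⁅b, c'⁆ := by
    intro b hb c hc c' hc'
    rw [← inv_inj, mul_inv_rev, commutatorElement_inv, commutatorElement_inv, commutatorElement_inv,
      haddL c hc c' hc' b hb]
    exact (hcz _ (hmem c hc b hb) _ (hmem c' hc' b hb).1).symm
  have hwell : ∀ b ∈ B, ∀ c ∈ B, ∀ b' ∈ B, ∀ c' ∈ B, π b = π b' → π c = π c' →
      ⁅b, c⁆ = ⁅b', c'⁆ := by
    intro b hb c hc b' hb' c' hc' h1 h2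
    have e1 : b⁻¹ * b' ∈ B₁ := QuotientGroup.eq.1 h1
    have e2 : c⁻¹ * c' ∈ B₁ := QuotientGroup.eq.1 h2
    have z1 : ∀ z ∈ B₁, ∀ d ∈ B, ⁅z, d⁆ = 1 := fun z hz d hd =>
      commutatorElement_eq_one_iff_mul_comm.2 (hcz z hz d hd).symm
    have z2 : ∀ z ∈ B₁, ∀ d ∈ B, ⁅d, z⁆ = 1 := fun z hz d hd =>
      commutatorElement_eq_one_iff_mul_comm.2 (hcz z hz d hd)
    conv_rhs => rw [← mul_inv_cancel_left b b', ← mul_inv_cancel_left c c']
    rw [haddL b hb _ e1.1 _ (mul_mem hc e2.1), z1 _ e1 _ (mul_mem hc e2.1), mul_one,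
      haddR b hb c hc _ e2.1, z2 _ e2 b hb, mul_one]
  let f₀ : Additive V₀ → Additive V₀ → Additive B₁ := fun u v =>
    Additive.ofMul ⟨⁅ℓ u, ℓ v⁆, hmem _ (hℓB u) _ (hℓB v)⟩
  have hf₀ : ∀ u v, ∀ b ∈ B, ∀ c ∈ B, π b = (u.toMul : G ⧸ B₁) → π c = (v.toMul : G ⧸ B₁) →
      ((f₀ u v).toMul : G) = ⁅b, c⁆ := fun u v b hb c hc h1 h2 =>
    hwell _ (hℓB u) _ (hℓB v) b hb c hc ((hℓ u).trans h1.symm) ((hℓ v).trans h2.symm)
  let fh : Additive V₀ →+ Additive V₀ →+ Additive B₁ :=
    AddMonoidHom.mk' (fun u => AddMonoidHom.mk' (f₀ u) fun v v' => Additive.toMul.injective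
      (Subtype.ext (by
        show ((f₀ u (v + v')).toMul : G) = ((f₀ u v).toMul : G) * ((f₀ u v').toMul : G)
        rw [hf₀ u (v + v') (ℓ u) (hℓB u) (ℓ v * ℓ v') (mul_mem (hℓB v) (hℓB v')) (hℓ u)
          (by rw [map_mul, hℓ, hℓ]; rfl), haddR _ (hℓB u) _ (hℓB v) _ (hℓB v')]
        rfl))) fun u u' => DFunLike.ext _ _ fun v => Additive.toMul.injective (Subtype.ext (by
        show ((f₀ (u + u') v).toMul : G) = ((f₀ u v).toMul : G) * ((f₀ u' v).toMul : G)
        rw [hf₀ (u + u') v (ℓ u * ℓ u') (mul_mem (hℓB u) (hℓB u')) (ℓ v) (hℓB v)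
          (by rw [map_mul, hℓ, hℓ]; rfl) (hℓ v), haddL _ (hℓB u) _ (hℓB u') _ (hℓB v)]
        rfl))
  have hfconj : ∀ (x : G) u v, ((fh (ρ x u) (ρ x v)).toMul : G) = x * (fh u v).toMul * x⁻¹ := by
    intro x u v
    show ((f₀ (ρ x u) (ρ x v)).toMul : G) = x * ⁅ℓ u, ℓ v⁆ * x⁻¹
    rw [hf₀ _ _ _ (hBn.conj_mem _ (hℓB u) x) _ (hBn.conj_mem _ (hℓB v) x)
      (by rw [map_mul, map_mul, map_inv, hℓ, hρval]) (by rw [map_mul, map_mul, map_inv, hℓ, hρval])]
    simp only [commutatorElement_def]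
    group
  obtain ⟨v, g, hiso, hfar⟩ := IsotropicSpan.exists_vector (p := p) (V := Additive V₀)
      (𝔄 := A) (𝔎 := K) (ρA := ρ.comp A.subtype) (ρK := ρ.comp K.subtype)
      (act := (MulAut.conjNormal : G →* MulAut K).comp A.subtype) hp
      (fun v => Additive.toMul.injective (by rw [toMul_nsmul, hexp]; rfl))
      ((S.isPGroup'.to_le hAS))
      (fun a q => by
        show ρ (a : G) * ρ (q : G) = ρ ((a : G) * q * (a : G)⁻¹) * ρ (a : G)
        rw [← map_mul, ← map_mul, inv_mul_cancel_right])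
      hKcomm hKcop fh
      (fun v => Additive.toMul.injective (Subtype.ext (commutatorElement_self (ℓ v))))
      (fun w hw => by
        obtain ⟨k, hk⟩ := (hBp.to_le inf_le_left : IsPGroup p B₁) w.toMul
        obtain ⟨m, hm⟩ := (hpp.odd_of_ne_two (by omega)).pow (n := k)
        refine Additive.toMul.injective ?_
        have h2 : w.toMul ^ 2 = 1 := by rw [sq]; exact congrArg Additive.toMul hw
        rw [hm, pow_succ, pow_mul, h2, one_pow, one_mul] at hk
        exact hk)
      (fun q u v => Additive.toMul.injective (Subtype.ext (by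
        show ((fh (ρ q u) (ρ q v)).toMul : G) = _
        rw [hfconj, mem_centralizer_iff.1 (fh u v).toMul.2.2 _ q.2, mul_inv_cancel_right])))
      (fun a => ⟨fun w => Additive.ofMul ⟨(a : G) * w.toMul * (a : G)⁻¹,
          hB₁n.conj_mem _ w.toMul.2 a⟩,
        fun u v => Additive.toMul.injective (Subtype.ext (hfconj a u v))⟩)
      ⟨a₀, ⟨k₀, hk₀⟩, fun h => hne₀ (hfaith _
        (mul_mem ((inferInstance : K.Normal).conj_mem k₀ hk₀ a₀) (inv_mem hk₀)) (by
          have h' : ρ ((a₀ : G) * k₀ * (a₀ : G)⁻¹) = ρ k₀ := h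
          rw [map_mul, h', ← map_mul, mul_inv_cancel, map_one]))⟩
  -- the large abelian subgroup
  set b₀ := ℓ v with hb₀def
  have hb₀ : b₀ ∈ B := hℓB v
  set c : A → G := fun a => (a : G) * b₀ * (a : G)⁻¹ * b₀⁻¹ with hc
  have hcB : ∀ a, c a ∈ B := fun a => mul_mem (hBn.conj_mem _ hb₀ _) (inv_mem hb₀)
  have hcπ : ∀ a : A, π (c a) = ((ρ (a : G) v - v).toMul : G ⧸ B₁) := by
    intro a
    rw [toMul_sub, coe_div, hρval, div_eq_mul_inv, ← hℓ v]
    simp only [hc, map_mul, map_inv, b₀]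
  have hcc : ∀ a b, c a * c b = c b * c a := by
    intro a b
    rw [← commutatorElement_eq_one_iff_mul_comm,
      ← hf₀ _ _ _ (hcB a) _ (hcB b) (hcπ a) (hcπ b)]
    exact congrArg (fun w : Additive B₁ => (w.toMul : G)) (hiso a b)
  set M := Subgroup.closure (Set.range c) with hM
  haveI hMc : IsMulCommutative M := Subgroup.isMulCommutative_closure (by
    rintro _ ⟨a, rfl⟩ _ ⟨b, rfl⟩; exact hcc a b)
  have hMB : M ≤ B := (closure_le _).2 (by rintro _ ⟨a, rfl⟩; exact hcB a)
  have hcmem : ∀ a, c a ∈ M := fun a => subset_closure ⟨a, rfl⟩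
  have hmul : ∀ a b : A, c (a * b) = (a : G) * c b * (a : G)⁻¹ * c a := by
    intro a b
    simp only [hc, Subgroup.coe_mul]
    group
  set C := A ⊓ centralizer (M : Set G) with hC₁
  set N := M ⊓ centralizer (A : Set G) with hN
  have hstab : ∀ a : A, c a ∈ N → (a : G) ∈ C := by
    intro a ha
    refine ⟨a.2, ?_⟩
    intro m hm
    suffices hle : M ≤ centralizer ({(a : G)} : Set G) from
      (mem_centralizer_iff.1 (hle hm) (a : G) rfl).symm
    refine (closure_le _).2 ?_
    rintro _ ⟨b, rfl⟩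
    rw [SetLike.mem_coe, mem_centralizer_iff]
    rintro _ rfl
    have h1 : (b : G) * c a = c a * b := mem_centralizer_iff.1 ha.2 b b.2
    have h2 : (a : G) * c b * (a : G)⁻¹ * c a = (b : G) * c a * (b : G)⁻¹ * c b := by
      rw [← hmul, ← hmul, mul_comm' a b]
    rw [h1, mul_inv_cancel_right, hcc a b, mul_left_inj] at h2
    exact mul_inv_eq_iff_eq_mul.1 h2
  have hNC : ∀ x ∈ C, x ∈ M → x ∈ N := fun x hx hxM =>
    ⟨hxM, fun y hy => congrArg Subtype.val (hA.is_comm.comm (⟨y, hy⟩ : A) ⟨x, hx.1⟩)⟩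
  let D := M ⊔ C
  have hDS : D ≤ (S : Subgroup G) := sup_le ((hMB.trans hBQ).trans hQS) (inf_le_left.trans hAS)
  haveI hDc : IsMulCommutative D := by
    refine le_centralizer_iff_isMulCommutative.1 (sup_le ?_ ?_)
    · rw [le_centralizer_iff]
      exact sup_le (le_centralizer_iff_isMulCommutative.2 hMc) inf_le_right
    · rw [le_centralizer_iff]
      refine sup_le (le_centralizer_iff.1 inf_le_right) ?_
      exact (inf_le_left.trans (le_centralizer_iff_isMulCommutative.2 hA)).trans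
        (centralizer_le inf_le_left)
  -- counting
  set C' := C.subgroupOf A with hC'
  set N' := N.subgroupOf M with hN'
  have hcount : Nat.card (A ⧸ C') < Nat.card (M ⧸ N') := by
    let ψ : A ⧸ C' → M ⧸ N' := fun q => QuotientGroup.mk ⟨c q.out, hcmem _⟩
    cases nonempty_fintype (A ⧸ C')
    cases nonempty_fintype (M ⧸ N')
    rw [Nat.card_eq_fintype_card, Nat.card_eq_fintype_card]
    refine Fintype.card_lt_of_injective_not_surjective ψ ?_ ?_
    · intro q q' h
      rw [← QuotientGroup.out_eq' q, ← QuotientGroup.out_eq' q']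
      set a := q.out
      set a' := q'.out
      have h1 : (c a)⁻¹ * c a' ∈ N := (QuotientGroup.eq (s := N')).1 (h : (QuotientGroup.mk (⟨c a, hcmem a⟩ : M) : M ⧸ N') = QuotientGroup.mk ⟨c a', hcmem a'⟩)
      have h2 : a' = a * (a⁻¹ * a') := (mul_inv_cancel_left a a').symm
      set d := a⁻¹ * a'
      rw [QuotientGroup.eq]
      rw [h2, hmul] at h1
      have h3 : (a : G) * c d * (a : G)⁻¹ ∈ M := by
        have := mul_mem (hcmem (a * d)) (inv_mem (hcmem a))
        rwa [hmul, mul_inv_cancel_right] at this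
      have h4 : (c a)⁻¹ * ((a : G) * c d * (a : G)⁻¹ * c a) = (a : G) * c d * (a : G)⁻¹ := by
        have e := congrArg Subtype.val (hMc.is_comm.comm (⟨_, h3⟩ : M) ⟨c a, hcmem a⟩)
        rw [show (a : G) * c d * (a : G)⁻¹ * c a = c a * ((a : G) * c d * (a : G)⁻¹) from e,
          inv_mul_cancel_left]
      rw [h4] at h1
      refine hstab d ⟨hcmem d, fun y hy => ?_⟩
      have h5 := mem_centralizer_iff.1 h1.2
      have h6 : (a : G) * c d * (a : G)⁻¹ = c d := by
        have := h5 (a : G) a.2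
        calc (a : G) * c d * (a : G)⁻¹ = (a : G)⁻¹ * ((a : G) * ((a : G) * c d * (a : G)⁻¹)) := by group
          _ = (a : G)⁻¹ * (((a : G) * c d * (a : G)⁻¹) * (a : G)) := by rw [this]
          _ = c d := by group
      rw [← h6]
      exact h5 y hy
    · intro hs
      obtain ⟨q, hq⟩ := hs (QuotientGroup.mk ⟨c g * c g, mul_mem (hcmem g) (hcmem g)⟩)
      have h1 : (c q.out)⁻¹ * (c g * c g) ∈ N := (QuotientGroup.eq (s := N')).1 (hq : (QuotientGroup.mk (⟨c q.out, hcmem q.out⟩ : M) : M ⧸ N') = QuotientGroup.mk ⟨c g * c g, mul_mem (hcmem g) (hcmem g)⟩)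
      obtain ⟨a, ha⟩ := hfar q.out
      refine ha (Additive.toMul.injective (Subtype.ext ?_))
      set w := ρ (q.out : G) v - v - 2 • (ρ (g : G) v - v)
      have hw : (w.toMul : G ⧸ B₁) = π ((c q.out)⁻¹ * (c g * c g))⁻¹ := by
        rw [mul_inv_rev, inv_inv, map_mul, map_inv, map_mul, hcπ, hcπ]
        show ((_ - _ : Additive V₀).toMul : G ⧸ B₁) = _
        rw [toMul_sub, coe_div, two_nsmul, toMul_add, Subgroup.coe_mul, div_eq_mul_inv]
        have e : ∀ x y : V₀, (x : G ⧸ B₁) * (y : G ⧸ B₁)⁻¹ = (y : G ⧸ B₁)⁻¹ * x := fun x y =>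
          congrArg Subtype.val (hV₀c.is_comm.comm x y⁻¹)
        exact e (Additive.toMul (ρ (q.out : G) v - v))
          (Additive.toMul (ρ (g : G) v - v) * Additive.toMul (ρ (g : G) v - v))
      show ((ρ (a : G) w).toMul : G ⧸ B₁) = ((w.toMul : V₀) : G ⧸ B₁)
      rw [hρval, hw, ← map_mul, ← map_inv, ← map_mul,
        mem_centralizer_iff.1 (inv_mem h1.2) (a : G) a.2, mul_inv_cancel_right]
  have hDcard : Nat.card C * Nat.card (M ⧸ N') ≤ Nat.card D := by
    rw [← Nat.card_prod]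
    refine Nat.card_le_card_of_injective (fun z : C × (M ⧸ N') =>
      (⟨(z.1 : G) * (z.2.out : M), mul_mem (mem_sup_right z.1.2)
        (mem_sup_left (z.2.out : M).2)⟩ : D)) ?_
    rintro ⟨x, q⟩ ⟨x', q'⟩ h
    have h' : (x : G) * (q.out : M) = (x' : G) * (q'.out : M) := congrArg Subtype.val h
    have h1 : (x' : G)⁻¹ * x = (q'.out : M) * ((q.out : M) : G)⁻¹ := by
      rw [eq_mul_inv_iff_mul_eq, mul_assoc, h', inv_mul_cancel_left]
    have h2 := hNC _ (mul_mem (inv_mem x'.2) x.2)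
      (h1 ▸ mul_mem (q'.out : M).2 (inv_mem (q.out : M).2))
    rw [h1] at h2
    have hqq : q = q' := by
      rw [← QuotientGroup.out_eq' q, ← QuotientGroup.out_eq' q', QuotientGroup.eq]
      have e := hMc.is_comm.comm (q'.out : M) (q.out : M)⁻¹
      show (((q.out : M)⁻¹ * q'.out : M) : G) ∈ N
      rw [← e]
      exact h2
    subst hqq
    exact Prod.ext (Subtype.ext (mul_right_cancel h')) rfl
  have hsplit : Nat.card A = Nat.card (A ⧸ C') * Nat.card C := by
    rw [C'.card_eq_card_quotient_mul_card_subgroup, hC',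
      Nat.card_congr (subgroupOfEquivOfLe (inf_le_left : C ≤ A)).toEquiv]
  have hle := hmax D hDS hDc
  have hlt : Nat.card (A ⧸ C') * Nat.card C < Nat.card (M ⧸ N') * Nat.card C :=
    Nat.mul_lt_mul_of_pos_right hcount Nat.card_pos
  rw [← hsplit, mul_comm (Nat.card (M ⧸ N'))] at hlt
  omega

end

end CfsgLib.LocalEvenBasic
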